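import Cfsg.Agent.H12.EP.Own
import Cfsg.Agent.H44.SEofTI
import Cfsg.Agent.Lib.Cores
import Cfsg.Agent.H752.EP.Torus
import Cfsg.Agent.H528.EP.UB3_m3
import Cfsg.Prelude.Def_KGroupFacts
import Cfsg.Agent.H708.ReeSix_m3
import Cfsg.Agent.H481.TBound
import Cfsg.Agent.S2126
import Cfsg.Agent.S1162
import Cfsg.Agent.S1163
import Cfsg.Agent.H315.TwF.Main
import Cfsg.Agent.S2128
import Cfsg.Agent.H893.RM.TwT
import Cfsg.Agent.FastGrp
import Cfsg.Agent.Prune
set_option linter.all false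
prune_inst 0x7fffbcfd7bb8fddfdfff7e7ffed1dffe3b961fffe6dffd4bffe869ff2b9f231a09c56ba50de010fe0ef6e21410b87853fbffeeffeb6fdc7ffffd5ff45ffbee1ff5f6bd0951d68c340fbc0ff703f0778e7f3fffffffffffffffffffffffffffbeffbfffffffff
open scoped Cfsg.Agent.FastGrp

-- part: H752/EP/TIPars
section
/-!
# Canonical parabolics of groups with trivially intersecting Sylow `p`-subgroups (helper752)

`pars_of_ti`: the normalizers of the Sylow `p`-subgroups; `lieSoc_of_ti`.
-/

set_option autoImplicit false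

namespace Cfsg.Agent.H752.EP

open Subgroup Cfsg.Agent.H12.EP.BT Cfsg.Agent.H210.Loc Cfsg.Agent.H419.EP
open scoped Pointwise

theorem pars_of_ti {p : ℕ} [Fact p.Prime] {Y : Type*} [Group Y] [Finite Y] (hTI : TI p Y)
    (hn : ∀ P : Sylow p Y, normalizer ((P : Subgroup Y) : Set Y) ≠ ⊤) :
    Pars p Y (Set.range fun P : Sylow p Y => normalizer ((P : Subgroup Y) : Set Y)) := by
  refine ⟨?_, ?_, ?_⟩
  · rw [← Set.image_univ]
    refine (Set.ncard_image_le (Set.toFinite _)).trans ?_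
    rw [Set.ncard_univ]
    obtain ⟨P⟩ : Nonempty (Sylow p Y) := inferInstance
    exact (Nat.le_of_dvd (Nat.pos_of_ne_zero Subgroup.index_ne_zero_of_finite) P.card_dvd_index).trans
      (Nat.le_of_dvd Nat.card_pos (P : Subgroup Y).index_dvd_card)
  · rintro _ ⟨P, rfl⟩
    exact hn P
  · intro K N₀ hN₀ hnor hp h1
    set O : Subgroup Y := (Cfsg.pCore p K).map K.subtype with hO
    have hOK : O ≤ K := by
      rintro _ ⟨x, _, rfl⟩
      exact x.2
    have hNO : N₀ ≤ O := by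
      have h2 : (N₀.subgroupOf K).Normal := ⟨fun n hn g => hnor g g.2 n hn⟩
      have h3 : N₀.subgroupOf K ≤ Cfsg.pCore p K := Cfsg.Agent.Lib.Cores.le_pCore h2 hp.comap_subtype
      intro x hx
      exact ⟨⟨x, hN₀ hx⟩, h3 hx, rfl⟩
    have hO1 : O ≠ ⊥ := by
      intro h
      apply h1
      rw [eq_bot_iff, ← h]
      exact hNO
    have hOp : IsPGroup p O := (Cfsg.Agent.Lib.Cores.pCore_isPGroup p).map _
    obtain ⟨P, hP⟩ := hOp.exists_le_sylow
    have key : ∀ ψ : MulAut Y, (∀ x ∈ O, ψ x ∈ O) → ψ • P = P := by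
      intro ψ hψ
      by_contra hne
      apply hO1
      rw [eq_bot_iff, ← hTI _ _ hne]
      refine le_inf ?_ hP
      have hle : O.map ψ.toMonoidHom ≤ O := by
        rintro _ ⟨x, hx, rfl⟩
        exact hψ x hx
      have heq : O.map ψ.toMonoidHom = O := by
        apply Subgroup.eq_of_le_of_card_ge hle
        exact (Nat.card_congr (O.equivMapOfInjective ψ.toMonoidHom ψ.injective).toEquiv).le
      intro x hx
      rw [← heq] at hx
      obtain ⟨y, hy, rfl⟩ := hx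
      rw [Sylow.pointwise_smul_def]
      exact Subgroup.smul_mem_pointwise_smul y ψ (P : Subgroup Y) (hP hy)
    refine ⟨_, ⟨P, rfl⟩, ?_, ?_⟩
    · intro k hk
      show k ∈ normalizer ((P : Subgroup Y) : Set Y)
      apply Sylow.smul_eq_iff_mem_normalizer.1
      refine key (MulAut.conj k) ?_
      rintro _ ⟨x, hx, rfl⟩
      have hnn : (Cfsg.pCore p K).Normal := Cfsg.Agent.Lib.Cores.pCore_normal_inst p
      exact ⟨_, hnn.conj_mem x hx ⟨k, hk⟩, rfl⟩
    · intro φ hφ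
      have hφO : ∀ x ∈ O, φ x ∈ O := by
        let f : K →* K := (φ.toMonoidHom.comp K.subtype).codRestrict K (fun y => hφ y y.2)
        have hf : Function.Injective f := by
          intro y z e
          have e' : φ y = φ z := Subtype.ext_iff.1 e
          exact Subtype.ext (φ.injective e')
        let τ : MulAut K := MulEquiv.ofBijective f (Finite.injective_iff_bijective.1 hf)
        rintro _ ⟨x, hx, rfl⟩
        have hch : (Cfsg.pCore p K).Characteristic := Cfsg.Agent.Lib.Cores.pCore_characteristic p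
        have h2 : τ x ∈ Cfsg.pCore p K := by
          have h3 := Subgroup.characteristic_iff_map_eq.1 hch τ
          rw [← h3]
          exact ⟨x, hx, rfl⟩
        exact ⟨τ x, h2, rfl⟩
      have h2 := key φ hφO
      intro x hx
      have hx' : x • P = P := Sylow.smul_eq_iff_mem_normalizer.2 hx
      show φ x ∈ normalizer ((P : Subgroup Y) : Set Y)
      apply Sylow.smul_eq_iff_mem_normalizer.1
      have h3 : MulAut.conj (φ x) = φ * MulAut.conj x * φ⁻¹ := by
        ext y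
        simp only [MulAut.conj_apply, _root_.MulAut.mul_apply, _root_.MulAut.inv_apply, _root_.map_mul, _root_.MulEquiv.apply_symm_apply, _root_.map_inv]
      show MulAut.conj (φ x) • P = P
      rw [h3, mul_smul, mul_smul]
      have h4 : φ⁻¹ • P = P := by rw [inv_smul_eq_iff, h2]
      rw [h4]
      have h5 : MulAut.conj x • P = P := hx'
      rw [h5, h2]

/-- from `HasSoc` -/
theorem lieSoc_of_ti {p : ℕ} [Fact p.Prime] {Q : Type*} [Group Q] [Finite Q] {A : Subgroup Q} {L : Type*} [Group L]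
    (hsoc : HasSoc A L) (hL : IsSimpleGroup L) (hLn : ¬ ∀ a b : L, a * b = b * a) (hTI : TI p L)
    (hp : p ∣ Nat.card L) :
    ∃ N : Subgroup Q, LieSoc p A N ∧ Nonempty (N ≃* L) := by
  obtain ⟨N, h1, h2, h3, ⟨e⟩⟩ := hsoc
  have hLfin : Finite L := Finite.of_equiv _ e.toEquiv
  have hNs : IsSimpleGroup N := e.isSimpleGroup
  have hNn : ¬ ∀ a b : N, a * b = b * a := by
    intro h
    apply hLn
    intro a b
    apply e.symm.injective
    rw [map_mul, map_mul]
    exact h _ _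
  refine ⟨N, ⟨h1, h2, h3, hNs, ?_, ⟨_, pars_of_ti (hTI.of_equiv e.symm) ?_⟩⟩, ⟨e⟩⟩
  · intro h
    apply hNn
    intro a b
    exact Subtype.ext (h a a.2 b b.2)
  · intro P hP
    have hPn : (P : Subgroup N).Normal := Subgroup.normalizer_eq_top_iff.1 hP
    rcases hPn.eq_bot_or_eq_top with h4 | h4
    · have h5 : p ∣ Nat.card (P : Subgroup N) := P.dvd_card_of_dvd_card (by rwa [Nat.card_congr e.toEquiv])
      rw [h4, Subgroup.card_bot] at h5
      exact (Fact.out : p.Prime).one_lt.ne' (Nat.dvd_one.1 h5)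
    · have h6 : IsPGroup p N := (h4 ▸ P.2 : IsPGroup p (⊤ : Subgroup N)).of_equiv Subgroup.topEquiv
      have h7 : Group.IsSolvable N := by
        have := h6.isNilpotent
        infer_instance
      exact hNn (IsSimpleGroup.comm_iff_isSolvable.2 h7)

end Cfsg.Agent.H752.EP
end

-- part: H752/EP/Three
section
/-!
# The `s`-rank of `PGL_3` (helper752)

`three_index`: `ρ : Y →* GL_3(F)`, commutators and `s`-th powers scalar, `s` a prime different from the characteristic: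
the elements with scalar image form a subgroup of index at most `s^2`.
-/

set_option autoImplicit false

open Polynomial Module

namespace Cfsg.Agent.H752.EP

variable {F : Type*} [Field F]

end Cfsg.Agent.H752.EP
end

-- part: H752/EP/SRank
section
/-!
# The `s`-rank: abstract tools (helper752)

`SRank M s k`: every elementary abelian `s`-subgroup of `M` has order at most `s^k`.
-/

set_option autoImplicit false

namespace Cfsg.Agent.H752.EP

open Subgroup

/-- every elementary abelian `s`-subgroup has order at most `s^k` -/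
def SRank (M : Type*) [Group M] (s k : ℕ) : Prop :=
  ∀ X : Subgroup M, (∀ x ∈ X, ∀ y ∈ X, x * y = y * x) → (∀ x ∈ X, x ^ s = 1) → Nat.card X ≠ 0 ∧ Nat.card X ≤ s ^ k

theorem SRank.mono {M : Type*} [Group M] {s k l : ℕ} (hs : 0 < s) (h : SRank M s k) (hkl : k ≤ l) : SRank M s l :=
  fun X h1 h2 => ⟨(h X h1 h2).1, (h X h1 h2).2.trans (Nat.pow_le_pow_right hs hkl)⟩

theorem SRank.of_injective {M N : Type*} [Group M] [Group N] {s k : ℕ} (h : SRank M s k) (f : N →* M)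
    (hf : Function.Injective f) : SRank N s k := by
  intro X h1 h2
  have h3 := h (X.map f) (by
    rintro _ ⟨x, hx, rfl⟩ _ ⟨y, hy, rfl⟩
    rw [← map_mul, h1 x hx y hy, map_mul]) (by
    rintro _ ⟨x, hx, rfl⟩
    rw [← map_pow, h2 x hx, map_one])
  have h4 : Nat.card (X.map f) = Nat.card X := (Nat.card_congr (X.equivMapOfInjective f hf).toEquiv).symm
  rwa [h4] at h3

/-- transfer to `A` with socle `L` -/
theorem SRank.of_hasSoc {Q : Type*} [Group Q] {A : Subgroup Q} {L : Type*} [Group L] {s k : ℕ}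
    (h : SRank (MulAut L) s k) (hA : Cfsg.Agent.H419.EP.HasSoc A L) : SRank A s k := by
  obtain ⟨f, hf⟩ := hA.exists_hom
  exact h.of_injective f hf

/-- subgroups of `Q` inside `A` -/
theorem SRank.card_le {Q : Type*} [Group Q] {A : Subgroup Q} {s k : ℕ} (h : SRank A s k) {X : Subgroup Q} (hXA : X ≤ A)
    (h1 : ∀ x ∈ X, ∀ y ∈ X, x * y = y * x) (h2 : ∀ x ∈ X, x ^ s = 1) : Nat.card X ≠ 0 ∧ Nat.card X ≤ s ^ k := by
  have h3 := h (X.subgroupOf A) (by
    rintro ⟨x, hxA⟩ hx ⟨y, hyA⟩ hy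
    exact Subtype.ext (h1 x hx y hy)) (by
    rintro ⟨x, hxA⟩ hx
    exact Subtype.ext (h2 x hx))
  have h4 : Nat.card (X.subgroupOf A) = Nat.card X := Nat.card_congr (Subgroup.subgroupOfEquivOfLe hXA).toEquiv
  rwa [h4] at h3

theorem card_ext {M : Type*} [Group M] (N X : Subgroup M) {T : Type*} [Finite T] (f : X → T)
    (hf : ∀ x y : X, f x = f y → (x : M)⁻¹ * y ∈ N) (h1 : Nat.card ↥(X ⊓ N) ≠ 0) :
    Nat.card X ≠ 0 ∧ Nat.card X ≤ Nat.card T * Nat.card ↥(X ⊓ N) := by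
  have h0 : Nat.card (N.subgroupOf X) = Nat.card ↥(X ⊓ N) := by
    rw [inf_comm, ← Subgroup.inf_subgroupOf_right N X]
    exact Nat.card_congr (Subgroup.subgroupOfEquivOfLe inf_le_right).toEquiv
  have hinj : Function.Injective (fun q : X ⧸ N.subgroupOf X => f q.out) := by
    intro q q' h
    have h1 : (q.out)⁻¹ * q'.out ∈ N.subgroupOf X := hf _ _ h
    rw [← QuotientGroup.eq] at h1
    rwa [QuotientGroup.out_eq', QuotientGroup.out_eq'] at h1
  have hfq : Finite (X ⧸ N.subgroupOf X) := Finite.of_injective _ hinj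
  have h2 : (N.subgroupOf X).index ≤ Nat.card T := Nat.card_le_card_of_injective _ hinj
  have h3 : (N.subgroupOf X).index ≠ 0 := Subgroup.index_ne_zero_of_finite
  have h4 : Nat.card X = (N.subgroupOf X).index * Nat.card ↥(X ⊓ N) := by
    rw [← h0, (N.subgroupOf X).index_mul_card]
  rw [h4]
  exact ⟨mul_ne_zero h3 h1, Nat.mul_le_mul_right _ h2⟩

/-- elements of order dividing `s` in a finite cyclic group -/
theorem card_pow_le {C : Type*} [Group C] [Finite C] [IsCyclic C] {s : ℕ} (hs : 0 < s) :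
    Nat.card {c : C // c ^ s = 1} ≤ s := by
  classical
  have : Fintype C := Fintype.ofFinite C
  have h1 := IsCyclic.card_pow_eq_one_le (α := C) hs
  rw [Nat.card_eq_fintype_card, Fintype.card_subtype]
  exact h1

end Cfsg.Agent.H752.EP
end

-- part: H752/EP/OwnRank
section
/-!
# Counting two-point stabilisers, own characteristic, bounded rank (helper752)

Variants of helper12's `ncard_np_le`, `EPT.ncard_own`, `EPT.index_own` (`H12/EP/{GenJ,BT}.lean`):
the hypothesis `|A| < 60 ^ 60 ^ j` is replaced by `MLe j A` (`T^m ≤ A` implies `m ≤ 60 ^ j`), which follows from a bound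
for the `s`-ranks, and the `p`-subgroups of `A` outside the socle are cyclic.
-/

set_option autoImplicit false
set_option linter.unusedSectionVars false

namespace Cfsg.Agent.H752.EP

open Subgroup Cfsg.Agent.H284 Cfsg.Agent.H59.EP Cfsg.Agent.H528.EP Cfsg.Agent.H12.EP.BT Cfsg.Agent.H419.EP

universe u

/-- the number of factors of a characteristically simple nonabelian subgroup -/
def MLe (j : ℕ) (B : Type u) [Group B] : Prop :=
  ∀ (X : Subgroup B) (T : Type u) [Group T] [Finite T] (m : ℕ), IsSimpleGroup T → ¬ Group.IsSolvable T →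
    Nonempty (X ≃* (Fin m → T)) → m ≤ 60 ^ j

theorem mLe_of_srank {B : Type u} [Group B] {k j : ℕ} (h : ∀ s : ℕ, s.Prime → 5 ≤ s → SRank B s k) (hk : k ≤ 60 ^ j) :
    MLe j B := by
  intro X T _ _ m hT hTs ⟨e⟩
  obtain ⟨s, hs, hs5, hsd⟩ := exists_prime_ge_five hTs
  have : Fact s.Prime := ⟨hs⟩
  obtain ⟨t, ht⟩ := exists_prime_orderOf_dvd_card' s hsd
  let D : Subgroup (Fin m → T) := Subgroup.pi Set.univ fun _ => zpowers t
  have hD : ∀ f : Fin m → T, f ∈ D ↔ ∀ i, f i ∈ zpowers t := fun f => by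
    rw [Subgroup.mem_pi]
    exact ⟨fun h i => h i trivial, fun h i _ => h i⟩
  let g : (Fin m → T) →* B := X.subtype.comp e.symm.toMonoidHom
  have hg : Function.Injective g := X.subtype_injective.comp e.symm.injective
  have hts : t ^ s = 1 := by rw [← ht, pow_orderOf_eq_one]
  have h1 := h s hs hs5 (D.map g) (by
    rintro _ ⟨x, hx, rfl⟩ _ ⟨y, hy, rfl⟩
    rw [← map_mul, ← map_mul]
    congr 1
    funext i
    obtain ⟨a, ha⟩ := mem_zpowers_iff.1 ((hD x).1 hx i)
    obtain ⟨b, hb⟩ := mem_zpowers_iff.1 ((hD y).1 hy i)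
    rw [Pi.mul_apply, Pi.mul_apply, ← ha, ← hb, ← zpow_add, ← zpow_add, add_comm]) (by
    rintro _ ⟨x, hx, rfl⟩
    rw [← map_pow]
    have h2 : x ^ s = 1 := by
      funext i
      obtain ⟨a, ha⟩ := mem_zpowers_iff.1 ((hD x).1 hx i)
      rw [Pi.pow_apply, Pi.one_apply, ← ha, ← zpow_natCast, ← zpow_mul, mul_comm, zpow_mul, zpow_natCast, hts, one_zpow]
    rw [h2, map_one])
  have h2 : Nat.card (D.map g) = s ^ m := by
    have h3 : Nat.card D = s ^ m := by
      let E : D ≃ (Fin m → zpowers t) :=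
        { toFun := fun f i => ⟨f.1 i, (hD f.1).1 f.2 i⟩
          invFun := fun f => ⟨fun i => f i, (hD _).2 fun i => (f i).2⟩
          left_inv := fun f => rfl
          right_inv := fun f => rfl }
      rw [Nat.card_congr E, Nat.card_fun, Nat.card_zpowers, ht, Nat.card_eq_fintype_card, Fintype.card_fin]
    rw [← h3]
    exact (Nat.card_congr (D.equivMapOfInjective g hg).toEquiv).symm
  rw [h2] at h1
  exact ((Nat.pow_le_pow_iff_right hs.one_lt).1 h1.2).trans hk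

/-- **Characteristically simple groups** of order less than `60 ^ 60 ^ j`: elementary abelian, simple, or
`2 + j`-generated with trivial centre and of order at least 3600. -/
theorem char_simple_m {X : Type u} [Group X] [Finite X] [Nontrivial X] (hg : TwoGen.{u})
    (hc : ∀ Y : Subgroup X, Y.Characteristic → Y = ⊥ ∨ Y = ⊤) {j : ℕ}
    (hX : ∀ (T : Type u) [Group T] [Finite T] (m : ℕ), IsSimpleGroup T → ¬ Group.IsSolvable T →
      Nonempty (X ≃* (Fin m → T)) → m ≤ 60 ^ j) :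
    (∃ s : ℕ, s.Prime ∧ s ∣ Nat.card X ∧ ElAb s (⊤ : Subgroup X)) ∨ (IsSimpleGroup X ∧ ¬ Group.IsSolvable X) ∨
      ((∃ s : ℕ, s.Prime ∧ 5 ≤ s ∧ s ^ 2 ∣ Nat.card X) ∧ 3600 ≤ Nat.card X ∧ center X = ⊥ ∧
        ∃ f : Fin (2 + j) → X, _root_.Subgroup.closure (Set.range f) = ⊤) := by
  by_cases hcomm : ∀ a b : X, a * b = b * a
  · left
    obtain ⟨s, hs, hsd⟩ := Nat.exists_prime_and_dvd (n := Nat.card X) (by
      have := Finite.one_lt_card (α := X)
      omega)
    have : Fact s.Prime := ⟨hs⟩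
    obtain ⟨x, hx⟩ := exists_prime_orderOf_dvd_card' s hsd
    let Y : Subgroup X :=
      { carrier := {y | y ^ s = 1}
        one_mem' := one_pow s
        mul_mem' := fun {a b} ha hb => by
          show (a * b) ^ s = 1
          rw [(show Commute a b from hcomm a b).mul_pow, show a ^ s = 1 from ha, show b ^ s = 1 from hb, one_mul]
        inv_mem' := fun {a} ha => by
          show a⁻¹ ^ s = 1
          rw [inv_pow, show a ^ s = 1 from ha, inv_one] }
    have hY : Y.Characteristic := by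
      rw [characteristic_iff_map_le]
      rintro φ _ ⟨y, hy, rfl⟩
      show (φ y) ^ s = 1
      rw [← map_pow, show y ^ s = 1 from hy, map_one]
    refine ⟨s, hs, hsd, fun a _ b _ => hcomm a b, ?_⟩
    rcases hc Y hY with h | h
    · exfalso
      have h1 : x ∈ Y := by
        show x ^ s = 1
        rw [← hx, pow_orderOf_eq_one]
      rw [h, mem_bot] at h1
      rw [h1, orderOf_one] at hx
      exact hs.one_lt.ne hx
    · intro a _
      have h1 : a ∈ Y := by rw [h]; exact mem_top _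
      exact h1
  · right
    obtain ⟨T, _, m, hTf, hT, hm0, ⟨e⟩⟩ := exists_pi hc
    have hTc : ¬ ∀ a b : T, a * b = b * a := by
      intro h
      apply hcomm
      intro a b
      apply e.injective
      rw [map_mul, map_mul]
      funext i
      exact h _ _
    have hTs : ¬ Group.IsSolvable T := by
      intro hs
      apply hTc
      intro a b
      exact IsSimpleGroup.comm_iff_isSolvable.2 hs a b
    have h60 : 60 ≤ Nat.card T := Cfsg.Agent.H168.NoSolv.sixty_le hTs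
    have hcard : Nat.card X = Nat.card T ^ m := by
      rw [Nat.card_congr e.toEquiv, Nat.card_fun, Nat.card_eq_fintype_card (α := Fin m), Fintype.card_fin]
    rcases Nat.lt_or_ge m 2 with hm2 | hm2
    · left
      have hm1 : m = 1 := by omega
      subst hm1
      have e1 : X ≃* T := e.trans (MulEquiv.piUnique fun _ : Fin 1 => T)
      refine ⟨e1.isSimpleGroup, fun h => hTs ?_⟩
      exact Group.isSolvable_of_isSolvable_injective (f := e1.symm.toMonoidHom) e1.symm.injective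
    right
    have hm : m ≤ Nat.card T ^ j := (hX T m hT hTs ⟨e⟩).trans (Nat.pow_le_pow_left h60 j)
    obtain ⟨a, b, hab⟩ := hg T
    obtain ⟨f, hf⟩ := exists_gen_pi hTc hab hm
    refine ⟨?_, ?_, ?_, _, closure_range_of_equiv e hf⟩
    · obtain ⟨s, hs, hs5, hsd⟩ := exists_prime_ge_five hTs
      refine ⟨s, hs, hs5, ?_⟩
      rw [hcard]
      exact (pow_dvd_pow_of_dvd hsd 2).trans (pow_dvd_pow _ hm2)
    · rw [hcard]
      calc 3600 = 60 ^ 2 := by norm_num
        _ ≤ Nat.card T ^ 2 := Nat.pow_le_pow_left h60 2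
        _ ≤ Nat.card T ^ m := Nat.pow_le_pow_right (by omega) hm2
    · rcases hc (center X) inferInstance with h1 | h1
      · exact h1
      · exfalso
        apply hcomm
        intro a b
        have h2 : b ∈ center X := by rw [h1]; exact mem_top _
        exact mem_center_iff.1 h2 a

section count

variable {B : Type u} [Group B] [Finite B]

/-- **Counting theorem**, the prime `p` excluded. -/
theorem ncard_np_le_m (hg : TwoGen.{u}) {j : ℕ} (hB : MLe j B) {p C : ℕ} (hC : ClsLe p C B) {E : ℕ}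
    (hE : (∃ s : ℕ, s.Prime ∧ 5 ≤ s ∧ s ^ 2 ∣ Nat.card B) → Nat.card B ^ (2 + j) / 3600 ≤ E)
    {𝓜 : Set (Subgroup B)} {c : ℕ} (hc : ∀ M ∈ 𝓜, M.index ≤ c) (hnt : ∀ M ∈ 𝓜, M ≠ ⊥)
    (hch : ∀ M ∈ 𝓜, ∀ K : Subgroup M, K.Characteristic → K ≠ ⊥ → ∀ b : B,
      (∀ k ∈ K.map M.subtype, b * k * b⁻¹ ∈ K.map M.subtype) → b ∈ M)
    (hnp : ∀ M ∈ 𝓜, ∀ K : Subgroup M, K.Characteristic → K ≠ ⊥ → ¬ ElAb p K) :
    𝓜.ncard ≤ C * c + Nat.card B ^ 2 / 60 + E := by
  classical
  -- the minimal characteristic subgroup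
  have key : ∀ M ∈ 𝓜, ∃ X : Subgroup B, normalizer (X : Set B) = M ∧
      ((∃ s : ℕ, s.Prime ∧ s ≠ p ∧ ElAb s X ∧ X ≠ ⊥) ∨
        ((IsSimpleGroup X ∧ ¬ Group.IsSolvable X) ∧ ∃ a b : X, _root_.Subgroup.closure ({a, b} : Set X) = ⊤) ∨
        ((∃ s : ℕ, s.Prime ∧ 5 ≤ s ∧ s ^ 2 ∣ Nat.card B) ∧ 3600 ≤ Nat.card X ∧ center X = ⊥ ∧
          ∃ f : Fin (2 + j) → X, closure (Set.range f) = ⊤)) := by
    intro M hM
    have hMn : Nontrivial M := (Subgroup.nontrivial_iff_ne_bot M).2 (hnt M hM)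
    obtain ⟨Y, hY, hYne, hYmin⟩ := exists_min_char (B := M)
    have hYn : Nontrivial Y := (Subgroup.nontrivial_iff_ne_bot Y).2 hYne
    have hYc : ∀ Z : Subgroup Y, Z.Characteristic → Z = ⊥ ∨ Z = ⊤ := by
      intro Z hZ
      by_cases hZb : Z = ⊥
      · exact Or.inl hZb
      right
      have h1 := hYmin (Z.map Y.subtype) char_trans (by
        rintro _ ⟨z, _, rfl⟩
        exact z.2) (by
        intro e
        rw [Subgroup.map_eq_bot_iff_of_injective _ Y.subtype_injective] at e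
        exact hZb e)
      rw [Subgroup.eq_top_iff']
      intro y
      have h2 : (y : M) ∈ Z.map Y.subtype := by rw [h1]; exact y.2
      obtain ⟨z, hz, e⟩ := h2
      have : z = y := Subtype.ext e
      rw [← this]
      exact hz
    set X : Subgroup B := Y.map M.subtype with hX
    have hcard : Nat.card X = Nat.card Y :=
      (Nat.card_congr (Y.equivMapOfInjective _ M.subtype_injective).toEquiv).symm
    have e : Y ≃* X := Y.equivMapOfInjective _ M.subtype_injective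
    have hXB : Nat.card Y ∣ Nat.card B := by
      rw [← hcard]
      exact Subgroup.card_subgroup_dvd_card X
    have hXne : X ≠ ⊥ := by
      intro e
      rw [hX, Subgroup.map_eq_bot_iff_of_injective _ M.subtype_injective] at e
      exact hYne e
    refine ⟨X, ?_, ?_⟩
    · apply le_antisymm
      · intro b hb
        exact hch M hM Y hY hYne b fun k hk => (mem_normalizer_iff.1 hb k).1 hk
      · intro m hm
        have hn : Y.Normal := inferInstance
        rw [mem_normalizer_iff]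
        have key : ∀ m ∈ M, ∀ k ∈ X, m * k * m⁻¹ ∈ X := by
          rintro m hm _ ⟨k, hk, rfl⟩
          exact ⟨_, hn.conj_mem k hk ⟨m, hm⟩, rfl⟩
        intro k
        refine ⟨key m hm k, fun h => ?_⟩
        have := key m⁻¹ (M.inv_mem hm) _ h
        have e : m⁻¹ * (m * k * m⁻¹) * m⁻¹⁻¹ = k := by group
        rwa [e] at this
    · rcases char_simple_m hg hYc (fun T _ _ m hT hTs ⟨e'⟩ => hB X T m hT hTs ⟨e.symm.trans e'⟩) with ⟨s, hs, hsd, hel⟩ | ⟨h1, h2⟩ | ⟨⟨s, hs, hs5, hsd⟩, h1, h2, f, h3⟩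
      · left
        have hsp : s ≠ p := by
          rintro rfl
          refine hnp M hM Y hY hYne ⟨fun a ha b hb => ?_, fun a ha => ?_⟩
          · exact Subtype.ext_iff.1 (hel.comm ⟨a, ha⟩ (mem_top _) ⟨b, hb⟩ (mem_top _))
          · exact Subtype.ext_iff.1 (hel.exp ⟨a, ha⟩ (mem_top _))
        refine ⟨s, hs, hsp, ⟨?_, ?_⟩, hXne⟩
        · rintro _ ⟨a, ha, rfl⟩ _ ⟨b, hb, rfl⟩
          have := hel.comm ⟨a, ha⟩ (mem_top _) ⟨b, hb⟩ (mem_top _)
          have h1 : a * b = b * a := Subtype.ext_iff.1 this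
          rw [← map_mul, ← map_mul, h1]
        · rintro _ ⟨a, ha, rfl⟩
          have := hel.exp ⟨a, ha⟩ (mem_top _)
          have h1 : a ^ s = 1 := Subtype.ext_iff.1 this
          rw [← map_pow, h1, map_one]
      · right; left
        have hXs : IsSimpleGroup X := e.symm.isSimpleGroup
        refine ⟨⟨hXs, fun h => h2 ?_⟩, hg X⟩
        exact Group.isSolvable_of_isSolvable_injective (f := e.toMonoidHom) e.injective
      · right; right
        refine ⟨⟨s, hs, hs5, hsd.trans hXB⟩, by rw [hcard]; exact h1, ?_, _, closure_range_of_equiv e.symm h3⟩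
        rw [Subgroup.eq_bot_iff_forall]
        intro x hx
        have h4 : e.symm x ∈ center Y := by
          rw [mem_center_iff] at hx ⊢
          intro y
          apply e.injective
          rw [map_mul, map_mul, MulEquiv.apply_symm_apply]
          exact hx _
        rw [h2, mem_bot] at h4
        exact (MulEquiv.map_eq_one_iff e.symm).1 h4
  choose! f hf1 hf2 using key
  have hinj : Set.InjOn f 𝓜 := by
    intro M hM N hN e
    rw [← hf1 M hM, ← hf1 N hN, e]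
  rw [← hinj.ncard_image]
  have hsub : f '' 𝓜 ⊆ ({X : Subgroup B | (∃ s : ℕ, s.Prime ∧ s ≠ p ∧ ElAb s X ∧ X ≠ ⊥) ∧
      (normalizer (X : Set B)).index ≤ c} ∪
      {X : Subgroup B | (IsSimpleGroup X ∧ ¬ Group.IsSolvable X) ∧ ∃ a b : X, _root_.Subgroup.closure ({a, b} : Set X) = ⊤}) ∪
      {X : Subgroup B | (∃ s : ℕ, s.Prime ∧ 5 ≤ s ∧ s ^ 2 ∣ Nat.card B) ∧ 3600 ≤ Nat.card X ∧ center X = ⊥ ∧
        ∃ f : Fin (2 + j) → X, _root_.Subgroup.closure (Set.range f) = ⊤} := by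
    rintro _ ⟨M, hM, rfl⟩
    rcases hf2 M hM with h1 | h | h
    · left; left
      exact ⟨h1, by rw [hf1 M hM]; exact hc M hM⟩
    · left; right
      exact h
    · right
      exact h
  refine (Set.ncard_le_ncard hsub (Set.toFinite _)).trans ((Set.ncard_union_le _ _).trans (Nat.add_le_add
    ((Set.ncard_union_le _ _).trans (Nat.add_le_add ?_ ?_)) ?_))
  · obtain ⟨𝓔, h1, h2⟩ := hC
    refine (ncard_le_mul (𝓔 := 𝓔) ?_ (fun X hX => hX.2)).trans (Nat.mul_le_mul_right _ h1)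
    rintro X ⟨⟨s, hs, hsp, hel, hne⟩, -⟩
    exact h2 X s hs hsp hel hne
  · exact ncard_simple_le (fun X hX => hX.1) (fun X hX => hX.2)
  · by_cases h5 : ∃ s : ℕ, s.Prime ∧ 5 ≤ s ∧ s ^ 2 ∣ Nat.card B
    · exact (ncard_dgen_le (by norm_num) (fun X hX => hX.2)).trans (hE h5)
    · have h0 : {X : Subgroup B | (∃ s : ℕ, s.Prime ∧ 5 ≤ s ∧ s ^ 2 ∣ Nat.card B) ∧ 3600 ≤ Nat.card X ∧
          center X = ⊥ ∧ ∃ f : Fin (2 + j) → X, _root_.Subgroup.closure (Set.range f) = ⊤} = ∅ := by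
        rw [Set.eq_empty_iff_forall_notMem]
        intro X hX
        exact h5 hX.1
      rw [h0, Set.ncard_empty]
      exact Nat.zero_le _

end count

/-- the number of elementary abelian subgroups from the rank -/
theorem clsLe_rank {B : Type u} [Group B] [Finite B] {p k : ℕ} (h : ∀ s : ℕ, s.Prime → s ≠ p → SRank B s k) :
    ClsLe p (Nat.card B ^ k) B := by
  classical
  refine ⟨Set.range fun f : Fin k → B => _root_.Subgroup.closure (Set.range f), ?_, ?_⟩
  · rw [← Set.image_univ]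
    refine (Set.ncard_image_le (Set.toFinite _)).trans ?_
    rw [Set.ncard_univ, Nat.card_fun, Nat.card_eq_fintype_card (α := Fin k), Fintype.card_fin]
  · intro X s hs hsp hel _
    have : Fact s.Prime := ⟨hs⟩
    have h1 := h s hs hsp X (fun x hx y hy => hel.comm x hx y hy) (fun x hx => hel.exp x hx)
    have h2 : IsPGroup s X := by
      rintro ⟨y, hy⟩
      refine ⟨1, Subtype.ext ?_⟩
      rw [pow_one]
      exact hel.exp y hy
    obtain ⟨f, hf⟩ := exists_gen_pgroup h2 h1.2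
    refine ⟨X, ⟨fun i => (f i : B), ?_⟩, 1, ?_⟩
    · have h3 := congrArg (Subgroup.map X.subtype) hf
      rw [MonoidHom.map_closure, ← Set.range_comp, ← MonoidHom.range_eq_map, X.range_subtype] at h3
      exact h3
    · rw [map_one]
      ext y
      constructor
      · intro hy
        exact ⟨y, hy, rfl⟩
      · rintro ⟨z, hz, rfl⟩
        exact hz

section own

variable {Q : Type u} [Group Q] [Finite Q] {A N : Subgroup Q} {Γ : Subgroup (MulAut Q)} {p : ℕ}

/-- the number of `M0` with an invariant `p`-subgroup outside the socle -/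
theorem ncard_out_cyc (hS : LieSoc p A N) (h : EPT A Γ)
    (hout : ∀ R : Subgroup Q, R ≤ A → IsPGroup p R → R ⊓ N = ⊥ → ∃ x ∈ R, R = zpowers x) :
    {M : Subgroup Q | ∃ x, x ∉ A ∧ M = A ⊓ cj x A ∧ ∃ R : Subgroup Q, R ≤ A ⊓ cj x A ∧
      (∀ σ ∈ Γ, x⁻¹ * σ x ∈ A → ∀ k ∈ R, σ k ∈ R) ∧ IsPGroup p R ∧ R ≠ ⊥ ∧ R ⊓ N = ⊥}.ncard ≤ Nat.card A := by
  classical
  set 𝓜 := {M : Subgroup Q | ∃ x, x ∉ A ∧ M = A ⊓ cj x A ∧ ∃ R : Subgroup Q, R ≤ A ⊓ cj x A ∧
      (∀ σ ∈ Γ, x⁻¹ * σ x ∈ A → ∀ k ∈ R, σ k ∈ R) ∧ IsPGroup p R ∧ R ≠ ⊥ ∧ R ⊓ N = ⊥} with h𝓜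
  have key : ∀ M ∈ 𝓜, ∃ y : A, ∀ b : Q, b ∈ M ↔ b ∈ A ∧ ∀ k ∈ zpowers (y : Q), b * k * b⁻¹ ∈ zpowers (y : Q) := by
    rintro _ ⟨x, hx, rfl, R, hR, hRn, hRp, hR1, hRN⟩
    have hRA : R ≤ A := hR.trans inf_le_left
    obtain ⟨y, hyR, hy⟩ := hout R hRA hRp hRN
    refine ⟨⟨y, hRA hyR⟩, fun b => ?_⟩
    show b ∈ A ⊓ cj x A ↔ b ∈ A ∧ ∀ k ∈ zpowers y, b * k * b⁻¹ ∈ zpowers y
    rw [← hy]
    constructor
    · intro hb
      exact ⟨(mem_inf.1 hb).1, fun k hk => hRn _ ((h.conj b).2 (mem_inf.1 hb).1)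
        ((h.conj_stab (mem_inf.1 hb).1).2 (mem_inf.1 hb).2) k hk⟩
    · rintro ⟨hbA, hb⟩
      refine ⟨hbA, ?_⟩
      show b ∈ cj x A
      rw [← h.conj_stab hbA]
      exact h.norm x hx R hR hRn hR1 _ ((h.conj _).2 hbA) hb
  choose! f hf using key
  have hinj : Set.InjOn f 𝓜 := by
    intro M hM M' hM' e
    ext b
    rw [hf M hM, hf M' hM', e]
  rw [← hinj.ncard_image]
  refine (Set.ncard_le_ncard (Set.subset_univ _) (Set.toFinite _)).trans ?_
  rw [Set.ncard_univ]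

/-- **the number of two-point stabilisers, own characteristic** -/
theorem EPT.ncard_own_m [Fact p.Prime] (h : EPT A Γ) (hg : TwoGen.{u}) (hS : LieSoc p A N) {j : ℕ}
    (hout : ∀ R : Subgroup Q, R ≤ A → IsPGroup p R → R ⊓ N = ⊥ → ∃ x ∈ R, R = zpowers x) (hj : MLe j A) {C : ℕ}
    (hC : ClsLe p C A) {E : ℕ} (hE : (∃ s : ℕ, s.Prime ∧ 5 ≤ s ∧ s ^ 2 ∣ Nat.card A) → Nat.card A ^ (2 + j) / 3600 ≤ E) :
    {M : Subgroup Q | ∃ x, x ∉ A ∧ M = A ⊓ cj x A}.ncard ≤
      Nat.card A + Nat.card A + (C * (Nat.card A / 6) + Nat.card A ^ 2 / 60 + E) := by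
  classical
  set 𝓟 := {M : Subgroup Q | ∃ x, x ∉ A ∧ M = A ⊓ cj x A ∧ ∃ R : Subgroup Q, R ≤ A ⊓ cj x A ∧
      (∀ σ ∈ Γ, x⁻¹ * σ x ∈ A → ∀ k ∈ R, σ k ∈ R) ∧ IsPGroup p R ∧ R ⊓ N ≠ ⊥} with h𝓟
  set 𝓞 := {M : Subgroup Q | ∃ x, x ∉ A ∧ M = A ⊓ cj x A ∧ ∃ R : Subgroup Q, R ≤ A ⊓ cj x A ∧
      (∀ σ ∈ Γ, x⁻¹ * σ x ∈ A → ∀ k ∈ R, σ k ∈ R) ∧ IsPGroup p R ∧ R ≠ ⊥ ∧ R ⊓ N = ⊥} with h𝓞
  set 𝓡 := {M : Subgroup Q | ∃ x, x ∉ A ∧ M = A ⊓ cj x A ∧ ∀ R : Subgroup Q, R ≤ A ⊓ cj x A →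
      (∀ σ ∈ Γ, x⁻¹ * σ x ∈ A → ∀ k ∈ R, σ k ∈ R) → IsPGroup p R → R = ⊥} with h𝓡
  have hcov : {M : Subgroup Q | ∃ x, x ∉ A ∧ M = A ⊓ cj x A} ⊆ 𝓟 ∪ 𝓞 ∪ 𝓡 := by
    rintro _ ⟨x, hx, rfl⟩
    by_cases h1 : ∀ R : Subgroup Q, R ≤ A ⊓ cj x A → (∀ σ ∈ Γ, x⁻¹ * σ x ∈ A → ∀ k ∈ R, σ k ∈ R) → IsPGroup p R →
        R = ⊥
    · exact Or.inr ⟨x, hx, rfl, h1⟩
    · push Not at h1
      obtain ⟨R, hR, hRn, hRp, hR1⟩ := h1
      by_cases hRN : R ⊓ N = ⊥
      · exact Or.inl (Or.inr ⟨x, hx, rfl, R, hR, hRn, hRp, hR1, hRN⟩)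
      · exact Or.inl (Or.inl ⟨x, hx, rfl, R, hR, hRn, hRp, hRN⟩)
  refine (Set.ncard_le_ncard hcov (Set.toFinite _)).trans ((Set.ncard_union_le _ _).trans (Nat.add_le_add
    ((Set.ncard_union_le _ _).trans (Nat.add_le_add (hS.ncard_par h) (ncard_out_cyc hS h hout))) ?_))
  -- no invariant `p`-subgroups
  set 𝓜 : Set (Subgroup A) := {M | ∃ x, x ∉ A ∧ A ⊓ cj x A ∈ 𝓡 ∧ M = (A ⊓ cj x A).subgroupOf A} with h𝓜
  have h1 : 𝓡.ncard ≤ 𝓜.ncard := by
    refine Set.ncard_le_ncard_of_injOn (fun M => M.subgroupOf A) ?_ ?_ (Set.toFinite _)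
    · rintro _ ⟨x, hx, rfl, h2⟩
      exact ⟨x, hx, ⟨x, hx, rfl, h2⟩, rfl⟩
    · rintro _ ⟨x, _, rfl, _⟩ _ ⟨y, _, rfl, _⟩ e
      have e1 := congrArg (Subgroup.map A.subtype) e
      simp only [Subgroup.subgroupOf_map_subtype] at e1
      rw [inf_eq_left.2 (inf_le_left : A ⊓ cj x A ≤ A), inf_eq_left.2 (inf_le_left : A ⊓ cj y A ≤ A)] at e1
      exact e1
  refine h1.trans (ncard_np_le_m hg hj hC hE ?_ ?_ ?_ ?_)
  · rintro _ ⟨x, hx, -, rfl⟩
    have hc : Nat.card ((A ⊓ cj x A).subgroupOf A) = Nat.card (A ⊓ cj x A : Subgroup Q) :=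
      Nat.card_congr (Subgroup.subgroupOfEquivOfLe inf_le_left).toEquiv
    have hmul := ((A ⊓ cj x A).subgroupOf A).card_mul_index
    rw [hc] at hmul
    rw [Nat.le_div_iff_mul_le (by norm_num), ← hmul, mul_comm]
    exact Nat.mul_le_mul_right _ (EPT.six_le h hS.no_abelian hx)
  · rintro _ ⟨x, hx, -, rfl⟩ e
    apply h.M0 x hx
    rw [Subgroup.subgroupOf_eq_bot] at e
    exact e.eq_bot_of_le inf_le_left
  · rintro _ ⟨x, hx, -, rfl⟩ K hK hne b hb
    set E : (A ⊓ cj x A).subgroupOf A ≃* (A ⊓ cj x A : Subgroup Q) :=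
      Subgroup.subgroupOfEquivOfLe (inf_le_left : A ⊓ cj x A ≤ A) with hE
    have hch := char_map E hK
    have hn := h.norm_char hx (K.map E.toMonoidHom) (hK := hch) (by
      intro e
      rw [Subgroup.map_eq_bot_iff_of_injective _ E.injective] at e
      exact hne e) (a := (b : Q)) b.2 (by
      rintro _ ⟨_, ⟨k, hk, rfl⟩, rfl⟩
      obtain ⟨k', hk', e'⟩ := hb _ ⟨k, hk, rfl⟩
      refine ⟨_, ⟨k', hk', rfl⟩, ?_⟩
      have e2 := congrArg (Subtype.val) e'
      exact e2)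
    exact ⟨b.2, hn⟩
  · rintro _ ⟨x, hx, ⟨x', hx', exx', h𝓡x⟩, rfl⟩ K hK hne hel
    -- the image of `K` is invariant
    set R : Subgroup Q := (K.map ((A ⊓ cj x A).subgroupOf A).subtype).map A.subtype with hRdef
    have hRmem : ∀ y, y ∈ R ↔ ∃ k ∈ K, ((k : A) : Q) = y := by
      intro y
      constructor
      · rintro ⟨_, ⟨k, hk, rfl⟩, rfl⟩
        exact ⟨k, hk, rfl⟩
      · rintro ⟨k, hk, rfl⟩
        exact ⟨_, ⟨k, hk, rfl⟩, rfl⟩
    have hRM : R ≤ A ⊓ cj x A := by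
      intro y hy
      obtain ⟨k, _, rfl⟩ := (hRmem y).1 hy
      exact k.2
    have hRx : ∀ σ : MulAut Q, (∀ y ∈ A ⊓ cj x A, σ y ∈ A ⊓ cj x A) → ∀ k ∈ R, σ k ∈ R := by
      intro σ hσ
      have hA : ∀ y : (A ⊓ cj x A).subgroupOf A, σ ((y : A) : Q) ∈ A ⊓ cj x A := fun y => hσ _ y.2
      let f : (A ⊓ cj x A).subgroupOf A →* (A ⊓ cj x A).subgroupOf A :=
        { toFun := fun y => ⟨⟨σ ((y : A) : Q), (mem_inf.1 (hA y)).1⟩, hA y⟩
          map_one' := by
            apply Subtype.ext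
            apply Subtype.ext
            exact map_one σ
          map_mul' := fun y z => by
            apply Subtype.ext
            apply Subtype.ext
            exact map_mul σ _ _ }
      have hf : Function.Injective f := by
        intro y z e
        have e' : σ ((y : A) : Q) = σ ((z : A) : Q) := Subtype.ext_iff.1 (Subtype.ext_iff.1 e)
        exact Subtype.ext (Subtype.ext (σ.injective e'))
      let τ : MulAut ((A ⊓ cj x A).subgroupOf A) := MulEquiv.ofBijective f (Finite.injective_iff_bijective.1 hf)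
      have hτ : K.map τ.toMonoidHom = K := Subgroup.characteristic_iff_map_eq.1 hK τ
      intro y hy
      obtain ⟨k, hk, rfl⟩ := (hRmem y).1 hy
      have h2 : τ k ∈ K := by
        rw [← hτ]
        exact ⟨k, hk, rfl⟩
      exact (hRmem _).2 ⟨τ k, h2, rfl⟩
    have hRp : IsPGroup p R := by
      rintro ⟨y, hy⟩
      obtain ⟨k, hk, rfl⟩ := (hRmem y).1 hy
      refine ⟨1, Subtype.ext ?_⟩
      rw [pow_one]
      have h3 := hel.exp k hk
      have h4 : ((k : A) : Q) ^ p = 1 := by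
        have := congrArg (fun z : (A ⊓ cj x A).subgroupOf A => ((z : A) : Q)) h3
        simpa only [_root_.SubmonoidClass.coe_pow, _root_.OneMemClass.coe_one] using this
      exact h4
    have h2 := h𝓡x R (exx' ▸ hRM) (fun σ hσ hσx => hRx σ fun y hy => by
      rw [exx'] at hy ⊢
      exact h.stab_M0 hσ hσx hy) hRp
    apply hne
    rw [Subgroup.eq_bot_iff_forall]
    intro k hk
    have h3 : ((k : A) : Q) ∈ R := (hRmem _).2 ⟨k, hk, rfl⟩
    rw [h2, mem_bot] at h3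
    exact Subtype.ext (Subtype.ext h3)

/-- **the bound for the index, own characteristic** -/
theorem EPT.index_own_m [Fact p.Prime] (hs : IsSimpleGroup Q) (h : EPT A Γ) (hg : TwoGen.{u}) (hS : LieSoc p A N)
    {j : ℕ} (hout : ∀ R : Subgroup Q, R ≤ A → IsPGroup p R → R ⊓ N = ⊥ → ∃ x ∈ R, R = zpowers x) (hj : MLe j A)
    {C : ℕ} (hC : ClsLe p C A) {E : ℕ}
    (hE : (∃ s : ℕ, s.Prime ∧ 5 ≤ s ∧ s ^ 2 ∣ Nat.card A) → Nat.card A ^ (2 + j) / 3600 ≤ E) :
    A.index ≤ 1 + (Nat.card A + Nat.card A + (C * (Nat.card A / 6) + Nat.card A ^ 2 / 60 + E)) *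
      (2 * (Nat.card A / 6)) :=
  index_le_of (EPT.ncard_own_m h hg hS hout hj hC hE)
    (Cfsg.Agent.H173.EP.ub1 hs h (by norm_num) fun _ hx => EPT.six_le h hS.no_abelian hx) le_rfl

end own

end Cfsg.Agent.H752.EP
end

-- part: H752/EP/RkAut
section
/-!
# `Aut L` with `Out L` cyclic: ranks, `p`-subgroups outside the socle, the closed form of the bound (helper752)
-/

set_option autoImplicit false
set_option linter.unusedSectionVars false

namespace Cfsg.Agent.H752.EP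

open Subgroup Cfsg.Agent.H284 Cfsg.Agent.H59.EP Cfsg.Agent.H528.EP Cfsg.Agent.H12.EP.BT Cfsg.Agent.H419.EP

universe u

/-- the rank of `Aut L` -/
theorem srank_aut {L : Type*} [Group L] [Finite L] (hZ : center L = ⊥) (hcyc : IsCyclic (MulAut L ⧸ Cfsg.Inn L))
    {s k : ℕ} (hs : 0 < s) (h : SRank L s k) : SRank (MulAut L) s (k + 1) := by
  intro X h1 h2
  have hinj : Function.Injective (MulAut.conj : L →* MulAut L) := by
    rw [injective_iff_map_eq_one]
    intro a ha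
    have h3 : a ∈ center L := by
      rw [mem_center_iff]
      intro g
      have h4 := DFunLike.congr_fun ha g
      rw [MulAut.conj_apply, MulAut.one_apply, mul_inv_eq_iff_eq_mul] at h4
      exact h4.symm
    rw [hZ, mem_bot] at h3
    exact h3
  have h3 := h ((X ⊓ (MulAut.conj : L →* MulAut L).range).comap MulAut.conj) (by
    intro x hx y hy
    apply hinj
    rw [map_mul, map_mul]
    exact h1 _ hx.1 _ hy.1) (by
    intro x hx
    apply hinj
    rw [map_pow, map_one]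
    exact h2 _ hx.1)
  have h4 : Nat.card ((X ⊓ (MulAut.conj : L →* MulAut L).range).comap (MulAut.conj : L →* MulAut L)) =
      Nat.card ↥(X ⊓ (MulAut.conj : L →* MulAut L).range) := by
    rw [Nat.card_congr (((X ⊓ (MulAut.conj : L →* MulAut L).range).comap (MulAut.conj : L →* MulAut L)).equivMapOfInjective
      _ hinj).toEquiv, Subgroup.map_comap_eq, inf_eq_right.2 inf_le_right]
  rw [h4] at h3
  have hfin : Finite (MulAut L) := Finite.of_injective (fun a : MulAut L => (a : L → L)) DFunLike.coe_injective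
  have hfq : Finite (MulAut L ⧸ Cfsg.Inn L) := Quotient.finite _
  let f : X → {c : MulAut L ⧸ Cfsg.Inn L // c ^ s = 1} := fun x => ⟨QuotientGroup.mk (x : MulAut L), by
    rw [← QuotientGroup.mk_pow, h2 x x.2]
    rfl⟩
  obtain ⟨h5, h6⟩ := card_ext (MulAut.conj : L →* MulAut L).range X f (by
    intro x y hxy
    have h7 : (QuotientGroup.mk (x : MulAut L) : MulAut L ⧸ Cfsg.Inn L) = QuotientGroup.mk (y : MulAut L) :=
      congrArg Subtype.val hxy
    exact QuotientGroup.eq.1 h7) h3.1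
  refine ⟨h5, h6.trans ?_⟩
  rw [pow_succ']
  exact Nat.mul_le_mul (card_pow_le hs) h3.2

/-- a group with cyclic Sylow `s`-subgroups -/
theorem srank_cyc {L : Type*} [Group L] [Finite L] {s : ℕ} [Fact s.Prime]
    (h : ∀ P : Sylow s L, IsCyclic (P : Subgroup L)) : SRank L s 1 := by
  intro X h1 h2
  have hs : s.Prime := Fact.out
  refine ⟨Nat.card_pos.ne', ?_⟩
  have hp : IsPGroup s X := by
    rintro ⟨y, hy⟩
    exact ⟨1, Subtype.ext (by rw [pow_one]; exact h2 y hy)⟩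
  obtain ⟨P, hP⟩ := hp.exists_le_sylow
  have := h P
  have hX : IsCyclic X := isCyclic_of_injective (Subgroup.inclusion hP) (Subgroup.inclusion_injective hP)
  obtain ⟨g, hg⟩ := IsCyclic.exists_generator (α := X)
  have h3 : Nat.card X = orderOf g := by
    rw [← Nat.card_zpowers, (eq_top_iff.2 fun x _ => hg x : zpowers g = ⊤), Subgroup.card_top]
  rw [h3, pow_one]
  exact Nat.le_of_dvd hs.pos (orderOf_dvd_of_pow_eq_one (Subtype.ext (h2 g g.2)))

/-- small Sylow subgroups -/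
theorem srank_of_not_dvd {L : Type*} [Group L] [Finite L] {s k : ℕ} (hs : s.Prime) (h : ¬ s ^ (k + 1) ∣ Nat.card L) :
    SRank L s k := by
  have : Fact s.Prime := ⟨hs⟩
  intro X _ h2
  refine ⟨Nat.card_pos.ne', ?_⟩
  have hp : IsPGroup s X := by
    rintro ⟨y, hy⟩
    exact ⟨1, Subtype.ext (by rw [pow_one]; exact h2 y hy)⟩
  obtain ⟨n, hn⟩ := (IsPGroup.iff_card).1 hp
  rw [hn]
  apply Nat.pow_le_pow_right hs.pos
  by_contra hlt
  push Not at hlt
  exact h ((pow_dvd_pow s (by omega)).trans (hn ▸ X.card_subgroup_dvd_card))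

/-- `p`-subgroups outside the socle are cyclic -/
theorem hout_of_cyc {Q : Type*} [Group Q] [Finite Q] {A N : Subgroup Q} {p : ℕ} {L : Type*} [Group L]
    (hS : LieSoc p A N) (e : N ≃* L) (hcyc : IsCyclic (MulAut L ⧸ Cfsg.Inn L)) :
    ∀ R : Subgroup Q, R ≤ A → IsPGroup p R → R ⊓ N = ⊥ → ∃ x ∈ R, R = zpowers x := by
  intro R hR _ hRN
  have hn : (N.subgroupOf A).Normal := ⟨by
    rintro ⟨n, hn'⟩ hn ⟨a, ha⟩
    exact hS.nor a ha n hn⟩
  let g : A →* MulAut (N.subgroupOf A) := MulAut.conjNormal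
  let E : (N.subgroupOf A) ≃* L := (Subgroup.subgroupOfEquivOfLe hS.le).trans e
  let f : A →* MulAut L := (MulAut.congr E).toMonoidHom.comp g
  have hfinj : ∀ a : A, f a = 1 → a = 1 := by
    rintro ⟨a, ha⟩ hfa
    have hga : g ⟨a, ha⟩ = 1 := (MulAut.congr E).injective (by rw [map_one]; exact hfa)
    apply Subtype.ext
    apply hS.cen a ha
    intro n hn
    have h4 := DFunLike.congr_fun hga ⟨⟨n, hS.le hn⟩, hn⟩
    have h5 : a * n * a⁻¹ = n := by
      have := congrArg (fun y : (N.subgroupOf A) => ((y : A) : Q)) h4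
      simpa only [g, MulAut.conjNormal_apply, _root_.MulMemClass.mk_mul_mk, _root_.Subgroup.coe_mul, _root_.InvMemClass.coe_inv, _root_.MulAut.one_apply] using this
    rw [mul_inv_eq_iff_eq_mul] at h5
    exact h5
  have hfN : ∀ x : N.subgroupOf A, f (x : A) = MulAut.conj (E x) := by
    intro x
    ext l
    obtain ⟨y, rfl⟩ := E.surjective l
    show E (g (x : A) (E.symm (E y))) = E x * E y * (E x)⁻¹
    rw [E.symm_apply_apply, ← map_mul, ← map_inv, ← map_mul]
    congr 1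
  let φ : R →* MulAut L ⧸ Cfsg.Inn L := (QuotientGroup.mk' _).comp (f.comp (Subgroup.inclusion hR))
  have hφ : Function.Injective φ := by
    rw [injective_iff_map_eq_one]
    rintro ⟨r, hr⟩ h
    have h1 : f ⟨r, hR hr⟩ ∈ Cfsg.Inn L := (QuotientGroup.eq_one_iff _).1 h
    obtain ⟨l, hl⟩ := h1
    obtain ⟨x, rfl⟩ := E.surjective l
    have h2 : f ((⟨r, hR hr⟩ : A) * (x : A)⁻¹) = 1 := by
      rw [map_mul, map_inv, hfN x, ← hl]
      exact mul_inv_cancel _
    have h3 := hfinj _ h2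
    rw [mul_inv_eq_one] at h3
    have h4 : r = ((x : A) : Q) := congrArg Subtype.val h3
    have h5 : r ∈ R ⊓ N := ⟨hr, by rw [h4]; exact x.2⟩
    rw [hRN, mem_bot] at h5
    exact Subtype.ext h5
  have hRc : IsCyclic R := isCyclic_of_injective φ hφ
  obtain ⟨g, hg⟩ := IsCyclic.exists_generator (α := R)
  refine ⟨g, g.2, ?_⟩
  ext x
  constructor
  · intro hx
    obtain ⟨k, hk⟩ := mem_zpowers_iff.1 (hg ⟨x, hx⟩)
    exact mem_zpowers_iff.2 ⟨k, by rw [← SubgroupClass.coe_zpow, hk]⟩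
  · intro hx
    obtain ⟨k, rfl⟩ := mem_zpowers_iff.1 hx
    exact R.zpow_mem g.2 k

/-- the numbers -/
theorem num_rank {n k x y E i q : ℕ} (hk : 2 ≤ k) (hn : 60 ≤ n) (hx : 6 * x ≤ n) (hy : 60 * y ≤ n ^ 2)
    (hE : 3600 * E ≤ n ^ 3) (hi : i ≤ 1 + (n + n + (n ^ k * x + y + E)) * (2 * x)) (hq : q = n * i) :
    q ≤ n ^ (k + 3) := by
  have hn0 : 0 < n := by omega
  have e1 : n ^ (k + 1) = n ^ k * n := pow_succ n k
  have e2 : n ^ (k + 2) = n ^ (k + 1) * n := pow_succ n (k + 1)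
  have e3 : n ^ (k + 3) = n ^ (k + 2) * n := pow_succ n (k + 2)
  have h3 : n ^ 3 ≤ n ^ (k + 1) := Nat.pow_le_pow_right hn0 (by omega)
  have h2 : 60 * n ^ 2 ≤ n ^ 3 := by
    rw [pow_succ n 2, mul_comm]
    exact Nat.mul_le_mul_left _ hn
  have h1 : 60 * n ≤ n ^ 2 := by rw [sq]; exact Nat.mul_le_mul_right _ hn
  have hC : 6 * (n ^ k * x) ≤ n ^ (k + 1) := by
    rw [e1, show 6 * (n ^ k * x) = n ^ k * (6 * x) by ring]
    exact Nat.mul_le_mul_left _ hx
  have hS : 2 * (n + n + (n ^ k * x + y + E)) ≤ n ^ (k + 1) := by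
    generalize n ^ k * x = c at hC
    generalize n ^ (k + 1) = w at *
    generalize n ^ 3 = u at *
    generalize n ^ 2 = v at *
    (clear * - hC hE h3 hy h1 h2; omega)
  have h4 : (n + n + (n ^ k * x + y + E)) * (2 * x) ≤ n ^ (k + 1) * x := by
    calc (n + n + (n ^ k * x + y + E)) * (2 * x) = (2 * (n + n + (n ^ k * x + y + E))) * x := by ring
      _ ≤ _ := Nat.mul_le_mul_right _ hS
  have h5 : 6 * (n ^ (k + 1) * x) ≤ n ^ (k + 2) := by
    rw [e2, show 6 * (n ^ (k + 1) * x) = n ^ (k + 1) * (6 * x) by ring]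
    exact Nat.mul_le_mul_left _ hx
  have h6 : i ≤ n ^ (k + 2) := by
    have h7 : 2 ≤ n ^ (k + 2) := by
      calc 2 ≤ n := by omega
        _ = n ^ 1 := (pow_one n).symm
        _ ≤ n ^ (k + 2) := Nat.pow_le_pow_right hn0 (by omega)
    omega
  rw [hq, e3, mul_comm]
  exact Nat.mul_le_mul_right _ h6

/-- **the closed form** -/
theorem card_le_rank {Q : Type u} [Group Q] [Finite Q] {A N : Subgroup Q} {Γ : Subgroup (MulAut Q)} {p : ℕ}
    [Fact p.Prime] (hs : IsSimpleGroup Q) (h : EPT A Γ) (hg : TwoGen.{u}) (hS : LieSoc p A N)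
    (hout : ∀ R : Subgroup Q, R ≤ A → IsPGroup p R → R ⊓ N = ⊥ → ∃ x ∈ R, R = zpowers x)
    {k : ℕ} (hk : 2 ≤ k) (hr : ∀ s : ℕ, s.Prime → s ≠ p → SRank A s k) (h5 : ∀ s : ℕ, s.Prime → 5 ≤ s → SRank A s 60) :
    Nat.card Q ≤ Nat.card A ^ (k + 3) := by
  have h1 := EPT.index_own_m hs h hg hS (j := 1) hout (mLe_of_srank h5 (by norm_num)) (clsLe_rank hr)
    (E := Nat.card A ^ (2 + 1) / 3600) (fun _ => le_rfl)
  exact num_rank hk (sixty_le_card hS) (Nat.mul_div_le _ 6) (Nat.mul_div_le _ 60) (Nat.mul_div_le _ 3600) h1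
    (A.card_mul_index).symm

end Cfsg.Agent.H752.EP
end

-- part: H270/EP/Kill
section
/-!
# S3499, dimension at least 13, own characteristic: the order bound, Suzuki groups (helper270)

* `le_of_big` : `|Aut(soc)| ^ 4 ≤ |F| ^ C` gives `n (n - 1) / 2 ≤ C + 3`;
* `sz_deg` : a core in characteristic two with socle `Sz(K)`: `|F| ^ s = |K|`, `4 ^ s ≤ n`;
* `own_sz` : Suzuki groups do not occur.
-/

set_option autoImplicit false
set_option linter.unusedSectionVars false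

namespace Cfsg.Agent.H270.EP

open Cfsg Cfsg.Geo Matrix Cfsg.Agent.H915.LD Cfsg.Agent.H419.EP

universe u v

section kill

variable {Q : Type} [Group Q] [Finite Q] {A : Subgroup Q} {Γ : Subgroup (MulAut Q)} {ι : Type} [Fintype ι]
    [DecidableEq ι] {F : Type} [Field F] [Fintype F] {S P : Subgroup (GL ι F)}

theorem finite_socle (P : Subgroup (GL ι F)) : Finite (socle P) := by
  have : Finite (GL ι F) := inferInstance
  have : Finite P := inferInstance
  exact Quotient.finite _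

/-- **The order bound.** -/
theorem le_of_big {c : ℕ} (b : Big A Γ S P) (hUB : Nat.card Q ≤ Nat.card A ^ c) {C : ℕ}
    (hA : Nat.card (MulAut (socle P)) ^ c ≤ Fintype.card F ^ C) :
    Fintype.card ι * (Fintype.card ι - 1) / 2 ≤ C + 3 := by
  have := finite_socle P
  have hF : 2 ≤ Fintype.card F := b.two_le
  have h1 : Nat.card A ^ c ≤ Fintype.card F ^ C := (Nat.pow_le_pow_left b.hasSoc.card_le c).trans hA
  have h2 : Fintype.card F ^ (Fintype.card ι * (Fintype.card ι - 1) / 2) ≤ Fintype.card F ^ (C + 3) := by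
    calc Fintype.card F ^ (Fintype.card ι * (Fintype.card ι - 1) / 2) ≤ 8 * Nat.card Q := b.ord
      _ ≤ Fintype.card F ^ 3 * Fintype.card F ^ C := Nat.mul_le_mul
          (by have := Nat.pow_le_pow_left hF 3; omega) (hUB.trans h1)
      _ = _ := by rw [← pow_add, add_comm]
  exact (Nat.pow_le_pow_iff_right (by omega)).1 h2

/-- `n (n - 1) / 2` is monotone -/
theorem tri_mono {a n : ℕ} (h : a ≤ n) : a * (a - 1) / 2 ≤ n * (n - 1) / 2 :=
  Nat.div_le_div_right (Nat.mul_le_mul h (by omega))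

theorem card_aut {X : Type u} {Y : Type v} [Group X] [Group Y] [Finite Y] [IsSimpleGroup Y]
    (hna : ¬ IsMulCommutative X) (e : X ≃* Y) :
    Nat.card (MulAut X) = Nat.card (Cfsg.Out Y) * Nat.card Y := by
  have h1 : Nat.card (MulAut X) = Nat.card (MulAut Y) := Nat.card_congr (MulAut.congr e).toEquiv
  rw [h1, H934.OutB.card_out_mul]
  intro hc
  apply hna
  refine ⟨⟨fun a b => e.injective ?_⟩⟩
  rw [map_mul, map_mul]
  exact hc.is_comm.comm _ _

end kill

section sz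

open Cfsg.Agent.H861.SzN Cfsg.Agent.H100.Ppd Cfsg.Agent.H905.Md Cfsg.Agent.H909.Ppd

variable {ι : Type} [Fintype ι] [DecidableEq ι] {F : Type u} [Field F] [Finite F] {P : Subgroup (GL ι F)}

/-- **Suzuki groups in characteristic two: the degree.** -/
theorem sz_deg [CharP F 2] (hC : Core P) {K : Type v} [Field K] [Fintype K] {l : ℕ} (hl : 1 ≤ l)
    (hK : Fintype.card K = 2 ^ (2 * l + 1)) (e : Soc P ≃* Cfsg.Lie.Sz K (2 ^ (l + 1))) :
    ∃ s, Odd s ∧ Nat.card F ^ s = 2 ^ (2 * l + 1) ∧ 4 ^ s ≤ Fintype.card ι := by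
  classical
  have : Fact (Nat.Prime 2) := ⟨Nat.prime_two⟩
  obtain ⟨j⟩ := exists_emb F hK
  obtain ⟨φ, S, hφ, hS, hcard, htr⟩ := sz_model hC hl hK e j
  obtain ⟨s, hs, hFs⟩ := card_pow_eq (F := F) 2 (a := 2 * l + 1) (by omega)
    (pow_eq_of_no_subfield hC.absIrred hC.no_subfield 2 _ fun g hg => by
      rw [← hK]
      exact (sz_both hC.absIrred hC.perfect hl hK e hg).1)
  have := Fintype.ofFinite F
  obtain ⟨f, hf0, hf⟩ := FiniteField.card F 2
  have hfs : (f : ℕ) * s = 2 * l + 1 := by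
    rw [Nat.card_eq_fintype_card, hf, ← pow_mul] at hFs
    exact Nat.pow_right_injective le_rfl hFs
  have hper : S.image (sh (f : ℕ)) = S := by
    refine image_eq j hK fun x => ?_
    obtain ⟨g, rfl⟩ := trace_surj hK x
    rw [← htr, ← map_pow, ← hf, FiniteField.pow_card]
  have hle : s ≤ S.card := le_card hS hfs hper
  refine ⟨s, (Nat.odd_mul.1 (show Odd ((f : ℕ) * s) from ⟨l, by rw [hfs]⟩)).2, hFs, ?_⟩
  rw [hcard]
  exact Nat.pow_le_pow_right (by norm_num) hle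

end sz

section ownsz

variable {Q : Type} [Group Q] [Finite Q] {A : Subgroup Q} {Γ : Subgroup (MulAut Q)} {ι : Type} [Fintype ι]
    [DecidableEq ι] {F : Type} [Field F] [Fintype F] {S P : Subgroup (GL ι F)}

/-- `|Aut Sz(K)| ≤ |K| ^ 6` -/
theorem sz_aut {X : Type u} [Group X] (hna : ¬ IsMulCommutative X) {K : Type v} [Field K] [Fintype K] {l : ℕ}
    (hl : 1 ≤ l) (hK : Fintype.card K = 2 ^ (2 * l + 1)) (e : X ≃* Cfsg.Lie.Sz K (2 ^ (l + 1))) :
    Nat.card (MulAut X) ≤ (2 ^ (2 * l + 1)) ^ 6 := by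
  have h1 := (S1163.result hl hK).1
  have hs := S1162.result hl hK
  have hfin : Finite ↥(Cfsg.Lie.Sz K (2 ^ (l + 1))) := Nat.finite_of_card_ne_zero (by
    rw [h1]
    have h2 : 2 ≤ 2 ^ (2 * l + 1) := by
      calc 2 = 2 ^ 1 := rfl
        _ ≤ _ := Nat.pow_le_pow_right (by norm_num) (by omega)
    have h3 : 2 ^ (2 * l + 1) - 1 ≠ 0 := by omega
    (clear * - h3; positivity))
  rw [card_aut hna e, S2126.result hl hK, h1]
  obtain ⟨q, hq⟩ : ∃ q, q = 2 ^ (2 * l + 1) := ⟨_, rfl⟩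
  have h2 : 2 * l + 1 ≤ q := by rw [hq]; exact Nat.lt_two_pow_self.le
  rw [← hq]
  have h3 : (q - 1) * (q ^ 2 + 1) ≤ q ^ 3 := by
    obtain ⟨c, rfl⟩ : ∃ c, q = c + 1 := ⟨q - 1, by omega⟩
    rw [Nat.add_sub_cancel]
    nlinarith only []
  calc (2 * l + 1) * (q ^ 2 * (q - 1) * (q ^ 2 + 1)) = (2 * l + 1) * (q ^ 2 * ((q - 1) * (q ^ 2 + 1))) := by ring
    _ ≤ q * (q ^ 2 * q ^ 3) := Nat.mul_le_mul h2 (Nat.mul_le_mul_left _ h3)
    _ = q ^ 6 := by ring

theorem charP_of_ringChar {F : Type*} [Field F] {p : ℕ} (h : ringChar F = p) : CharP F p := by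
  rw [← h]; exact ringChar.charP F

/-- **Suzuki groups, own characteristic.** -/
theorem own_sz {c : ℕ} (b : Big A Γ S P) (hc12 : c ≤ 12) (hUB : Nat.card Q ≤ Nat.card A ^ c)
    (hc : ringChar F = 2) (h : Lie.IsoSuzuki (socle P)) : False := by
  obtain ⟨K, _, _, l, hl, hK, ⟨e⟩⟩ := h
  have := charP_of_ringChar hc
  obtain ⟨s, hs, hFs, h4⟩ := sz_deg (core_of_residual b.core) hl hK e
  have h1 := sz_aut b.core.nonabelian hl hK e
  have h2 : Nat.card (MulAut (socle P)) ^ c ≤ Fintype.card F ^ (6 * s * c) := by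
    calc Nat.card (MulAut (socle P)) ^ c ≤ ((2 ^ (2 * l + 1)) ^ 6) ^ c := Nat.pow_le_pow_left h1 c
      _ = Fintype.card F ^ (6 * s * c) := by
        rw [← hFs, Nat.card_eq_fintype_card, ← pow_mul, ← pow_mul]
        congr 1
        ring
  have h3 := le_of_big b hUB h2
  have h13 := b.thirteen
  have h3' : 6 * s * c ≤ 72 * s := by
    calc 6 * s * c ≤ 6 * s * 12 := Nat.mul_le_mul_left _ hc12
      _ = 72 * s := by ring
  by_cases hs1 : s = 1
  · subst hs1
    have := tri_mono h13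
    norm_num only [] at this
    omega
  · have hs3 : 3 ≤ s := by
      obtain ⟨k, hk⟩ := hs
      omega
    have h8 : ∀ s : ℕ, 3 ≤ s → 20 * s ≤ 4 ^ s := by
      intro s hs
      induction s, hs using Nat.le_induction with
      | base => norm_num
      | succ s hs ih => rw [pow_succ]; omega
    have h5 := tri_mono ((h8 s hs3).trans h4)
    have h6 : 20 * s * (20 * s - 1) / 2 = 10 * s * (20 * s - 1) := by
      rw [show 20 * s * (20 * s - 1) = 2 * (10 * s * (20 * s - 1)) by ring]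
      exact Nat.mul_div_cancel_left _ (by norm_num)
    rw [h6] at h5
    obtain ⟨t, rfl⟩ : ∃ t, s = t + 3 := ⟨s - 3, by omega⟩
    have h7 : 20 * (t + 3) - 1 = 20 * t + 59 := by omega
    rw [h7] at h5
    nlinarith only [h3, h3', h5]

end ownsz

end Cfsg.Agent.H270.EP
end

-- part: H270/EP/TwoF
section
/-!
# S3499, dimension at least 13, own characteristic: large Ree groups (helper270)
-/

set_option autoImplicit false
set_option linter.unusedSectionVars false

namespace Cfsg.Agent.H270.EP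

open Cfsg Cfsg.Geo Matrix
open Cfsg.Agent.H915.LD Cfsg.Agent.H100.Ppd Cfsg.Agent.H905.Md Cfsg.Agent.H315.TwF Cfsg.Agent.H419.EP

universe u v

section

variable {ι : Type} [Fintype ι] [DecidableEq ι] {F : Type u} [Field F] [Finite F] {P : Subgroup (GL ι F)}

/-- **Large Ree groups in characteristic two: the degree.** -/
theorem twf_deg [CharP F 2] (hC : Core P) {K : Type} [Field K] [Fintype K] {l : ℕ} (hl : 1 ≤ l)
    (hK : Fintype.card K = 2 ^ (2 * l + 1)) (e : Soc P ≃* ↥(Lie.twistedF4 K (2 ^ l))) :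
    ∃ t, 1 ≤ t ∧ (2 ^ (2 * l + 1)) ^ 4 ≤ Nat.card F ^ t ∧ 6 * t ≤ Fintype.card ι := by
  have hp2 : Fact (Nat.Prime 2) := ⟨Nat.prime_two⟩
  have hFin : Fintype F := Fintype.ofFinite F
  obtain ⟨φ, -, hker, -⟩ := exists_cover (p := 2) hC.perfect e (Cfsg.Agent.S1112.result hK hl)
    (fun r hr hr2 => Cfsg.Agent.H67.TwFFourOdd.noPCov_odd hl hK hr hr2) (πG := MonoidHom.id _) Function.surjective_id
    (by rw [MonoidHom.ker_id]; exact bot_le)
  obtain ⟨d, -, hd⟩ := FiniteField.card F 2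
  have hq : Nat.card F = 2 ^ (d : ℕ) := by rw [Nat.card_eq_fintype_card, hd]
  set N := 4 * (2 * l + 1) with hN
  obtain ⟨r', hr', hprim, hr'N, hr'2⟩ := Cfsg.Agent.Lib.Zsigmondy.exists_primitive (a := 2) (n := N) le_rfl (by omega)
    (fun h => by omega) (by omega)
  have hr'ne : r' ≠ 2 := fun h => hr'2 (h ▸ dvd_rfl)
  obtain ⟨Q, hQ⟩ : ∃ Q, Q = 2 ^ (2 * l + 1) := ⟨_, rfl⟩
  have hQ1 : 1 ≤ Q := by rw [hQ]; exact Nat.one_le_two_pow
  have hr'Q : r' ∣ Nat.card K * Nat.card K + 1 := by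
    have h1 : r' ∣ 2 ^ N - 1 := (hprim N).2 dvd_rfl
    have h2 : ¬ r' ∣ 2 ^ (2 * (2 * l + 1)) - 1 := fun h3 => by
      have := Nat.le_of_dvd (by omega) ((hprim _).1 h3)
      omega
    rw [Nat.card_eq_fintype_card, hK, ← hQ]
    have h3 : 2 ^ N - 1 = (2 ^ (2 * (2 * l + 1)) - 1) * (Q * Q + 1) := by
      have e1 : 2 ^ N = Q * Q * (Q * Q) := by rw [hQ, hN, ← pow_add, ← pow_add]; congr 1; ring
      have e2 : 2 ^ (2 * (2 * l + 1)) = Q * Q := by rw [hQ, ← pow_add]; congr 1; ring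
      rw [e1, e2]
      obtain ⟨c, hc⟩ : ∃ c, Q * Q = c + 1 := ⟨Q * Q - 1, by
        have : 1 ≤ Q * Q := Nat.one_le_iff_ne_zero.2 (by positivity)
        omega⟩
      rw [hc, Nat.add_sub_cancel]
      apply Nat.sub_eq_of_eq_add
      ring
    rw [h3] at h1
    exact (hr'.dvd_mul.1 h1).resolve_left h2
  set kk := AlgebraicClosure F with hkk
  have hch : CharP kk 2 := charP_of_injective_algebraMap (algebraMap F _).injective 2
  have hodd : ∀ a : ℕ, ¬ 2 ∣ a → (a : kk) ≠ 0 := fun a ha h0 => ha ((CharP.cast_eq_zero_iff kk 2 a).1 h0)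
  have hbound : 6 * orderOf ((Nat.card F : ℕ) : ZMod r') ≤ Fintype.card ι := by
    have h1 := rep_bound (K := K) (m := l) (by exact_mod_cast hodd 5 (by norm_num)) hl hK
      (Cfsg.Agent.H911.lin (acRep φ)) (r := r') ?_ hr' hr'ne hr'Q (hodd r' (fun h => hr'ne
        ((Nat.prime_dvd_prime_iff_eq Nat.prime_two hr').1 h).symm)) (semi_frob φ) ?_
        (fun α h1 h2 => card_Or hr' h1 h2)
    · rwa [Module.finrank_pi] at h1
    · intro g hg
      have h6 : φ g = 1 := by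
        apply Units.ext
        have h7 : acRep φ g = 1 := by
          have := congrArg LinearMap.toMatrix' hg
          simpa only [Cfsg.Agent.H911.lin, _root_.MonoidHom.coe_mk, _root_.OneHom.coe_mk, _root_.LinearMap.toMatrix'_toLin', _root_.LinearMap.toMatrix'_one] using this
        rw [acRep_apply] at h7
        apply Matrix.map_injective (algebraMap F (AlgebraicClosure F)).injective
        refine h7.trans ?_
        ext i j
        simp [Matrix.one_apply, apply_ite (algebraMap F (AlgebraicClosure F))]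
      have h8 : g ∈ φ.ker := h6
      have h9 := hker h8
      rwa [MonoidHom.ker_id, Subgroup.mem_bot] at h9
    · intro α hα
      have h2 : (α - 1) ^ Nat.card F = 0 := by
        rw [hq, sub_pow_char_pow, one_pow, ← hq, hα, sub_self]
      exact sub_eq_zero.1 ((pow_eq_zero_iff (Nat.card_pos (α := F)).ne').1 h2)
  have hfr : Fact r'.Prime := ⟨hr'⟩
  have h3 : 0 < orderOf ((Nat.card F : ℕ) : ZMod r') := by
    rw [orderOf_pos_iff, isOfFinOrder_iff_pow_eq_one]
    refine ⟨r' - 1, by have := hr'.one_lt; omega, ZMod.pow_card_sub_one_eq_one ?_⟩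
    rw [Ne, ZMod.natCast_eq_zero_iff, hq]
    exact fun h => hr'2 (hr'.dvd_of_dvd_pow h)
  refine ⟨_, h3, ?_, hbound⟩
  -- `N ∣ d t`
  have h4 : N ∣ (d : ℕ) * orderOf ((Nat.card F : ℕ) : ZMod r') := by
    rw [← hprim]
    have h5 : 1 ≤ 2 ^ ((d : ℕ) * orderOf ((Nat.card F : ℕ) : ZMod r')) := Nat.one_le_two_pow
    rw [← ZMod.natCast_eq_zero_iff, Nat.cast_sub h5, Nat.cast_one, sub_eq_zero]
    have h6 := pow_orderOf_eq_one ((Nat.card F : ℕ) : ZMod r')
    rw [pow_mul, ← hq, Nat.cast_pow]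
    exact h6
  have h5 : N ≤ (d : ℕ) * orderOf ((Nat.card F : ℕ) : ZMod r') :=
    Nat.le_of_dvd (Nat.mul_pos d.pos h3) h4
  calc (2 ^ (2 * l + 1)) ^ 4 = 2 ^ N := by rw [← pow_mul, hN]; congr 1; ring
    _ ≤ 2 ^ ((d : ℕ) * orderOf ((Nat.card F : ℕ) : ZMod r')) := Nat.pow_le_pow_right (by norm_num) h5
    _ = Nat.card F ^ orderOf ((Nat.card F : ℕ) : ZMod r') := by rw [pow_mul, ← hq]

end

section own

variable {Q : Type} [Group Q] [Finite Q] {A : Subgroup Q} {Γ : Subgroup (MulAut Q)} {ι : Type} [Fintype ι]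
    [DecidableEq ι] {F : Type} [Field F] [Fintype F] {S P : Subgroup (GL ι F)}

/-- `|Aut ²F₄(K)| ≤ |K| ^ 27` -/
theorem twf_aut {X : Type u} [Group X] (hna : ¬ IsMulCommutative X) (hX : IsSimpleGroup X) {K : Type v} [Field K]
    [Fintype K] {l : ℕ} (hl : 1 ≤ l) (hK : Fintype.card K = 2 ^ (2 * l + 1))
    (e : X ≃* ↥(Lie.twistedF4 K (2 ^ l))) : Nat.card (MulAut X) ≤ (2 ^ (2 * l + 1)) ^ 27 := by
  have h1 := S1068.result hK
  have hs : IsSimpleGroup ↥(Lie.twistedF4 K (2 ^ l)) := e.symm.isSimpleGroup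
  have hq2 : 2 ≤ 2 ^ (2 * l + 1) := by
    calc 2 = 2 ^ 1 := rfl
      _ ≤ _ := Nat.pow_le_pow_right (by norm_num) (by omega)
  have hfin : Finite ↥(Lie.twistedF4 K (2 ^ l)) := Nat.finite_of_card_ne_zero (by
    rw [h1]
    have h3 : 2 ^ (2 * l + 1) - 1 ≠ 0 := by omega
    have h4 : (2 ^ (2 * l + 1)) ^ 4 - 1 ≠ 0 := by
      have := Nat.pow_le_pow_left hq2 4
      omega
    (clear * - h3 h4; positivity))
  rw [card_aut hna e, S2128.result hl hK, h1]
  obtain ⟨q, hq⟩ : ∃ q, q = 2 ^ (2 * l + 1) := ⟨_, rfl⟩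
  have h2 : 2 * l + 1 ≤ q := by rw [hq]; exact (Nat.lt_pow_self (by norm_num)).le
  rw [← hq] at hq2 ⊢
  have h3 : (q - 1) * (q ^ 3 + 1) ≤ q ^ 4 := by
    obtain ⟨c, rfl⟩ : ∃ c, q = c + 1 := ⟨q - 1, by omega⟩
    rw [Nat.add_sub_cancel]
    have h4 : c ≤ (c + 1) ^ 3 := (Nat.le_succ c).trans (Nat.le_self_pow (by norm_num) _)
    have h5 : (c + 1) ^ 4 + c = c * ((c + 1) ^ 3 + 1) + (c + 1) ^ 3 := by ring
    omega
  have h4 : (q ^ 4 - 1) * (q ^ 6 + 1) ≤ q ^ 10 := by
    obtain ⟨c, hc⟩ : ∃ c, q ^ 4 = c + 1 := ⟨q ^ 4 - 1, by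
      have := Nat.pow_le_pow_left hq2 4
      omega⟩
    have h5 : q ^ 10 = (c + 1) * q ^ 6 := by rw [← hc]; ring
    have h6 : c ≤ q ^ 6 := by
      have : q ^ 4 ≤ q ^ 6 := Nat.pow_le_pow_right (by omega) (by norm_num)
      omega
    rw [hc, Nat.add_sub_cancel, h5]
    have h7 : (c + 1) * q ^ 6 = c * q ^ 6 + q ^ 6 := by ring
    have h8 : c * (q ^ 6 + 1) = c * q ^ 6 + c := by ring
    omega
  calc (2 * l + 1) * (q ^ 12 * (q - 1) * (q ^ 3 + 1) * (q ^ 4 - 1) * (q ^ 6 + 1))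
      = (2 * l + 1) * (q ^ 12 * (((q - 1) * (q ^ 3 + 1)) * ((q ^ 4 - 1) * (q ^ 6 + 1)))) := by ring
    _ ≤ q * (q ^ 12 * (q ^ 4 * q ^ 10)) := Nat.mul_le_mul h2 (Nat.mul_le_mul_left _ (Nat.mul_le_mul h3 h4))
    _ = q ^ 27 := by ring

/-- **Large Ree groups, own characteristic.** -/
theorem own_2f4 {c : ℕ} (b : Big A Γ S P) (hc5 : c ≤ 5) (hUB : Nat.card Q ≤ Nat.card A ^ c)
    (hc : ringChar F = 2) (h : Lie.Iso2F4 (socle P)) : False := by
  obtain ⟨K, _, _, l, hl, hK, ⟨e⟩⟩ := h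
  have := charP_of_ringChar hc
  obtain ⟨t, ht, hFt, h6⟩ := twf_deg (core_of_residual b.core) hl hK e
  have h1 := twf_aut b.core.nonabelian b.core.simple hl hK e
  have h2 : Nat.card (MulAut (socle P)) ^ c ≤ Fintype.card F ^ (34 * t) := by
    calc Nat.card (MulAut (socle P)) ^ c ≤ ((2 ^ (2 * l + 1)) ^ 27) ^ c := Nat.pow_le_pow_left h1 c
      _ ≤ ((2 ^ (2 * l + 1)) ^ 27) ^ 5 := Nat.pow_le_pow_right (by positivity) hc5
      _ = (2 ^ (2 * l + 1)) ^ 135 := by rw [← pow_mul _ 27 5]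
      _ ≤ (2 ^ (2 * l + 1)) ^ 136 := Nat.pow_le_pow_right (by positivity) (by norm_num)
      _ = ((2 ^ (2 * l + 1)) ^ 4) ^ 34 := by rw [← pow_mul _ 4 34]
      _ ≤ (Nat.card F ^ t) ^ 34 := Nat.pow_le_pow_left hFt 34
      _ = Fintype.card F ^ (34 * t) := by
        rw [Nat.card_eq_fintype_card, ← pow_mul]
        congr 1
        ring
  have h3 := le_of_big b hUB h2
  have h13 := b.thirteen
  by_cases ht2 : t ≤ 2
  · have := tri_mono h13
    norm_num only [] at this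
    omega
  · have h5 := tri_mono h6
    have h7 : 6 * t * (6 * t - 1) / 2 = 3 * t * (6 * t - 1) := by
      rw [show 6 * t * (6 * t - 1) = 2 * (3 * t * (6 * t - 1)) by ring]
      exact Nat.mul_div_cancel_left _ (by norm_num)
    rw [h7] at h5
    obtain ⟨s, rfl⟩ : ∃ s, t = s + 3 := ⟨t - 3, by omega⟩
    have h8 : 6 * (s + 3) - 1 = 6 * s + 17 := by omega
    rw [h8] at h5
    nlinarith only [h3, h5]

end own

end Cfsg.Agent.H270.EP
end

-- part: H270/EPU/Rank
section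
/-!
# S3499, `²F₄(q)`: the ranks for odd primes (helper270)

* `prankLE_two` : every elementary abelian `r`-subgroup of `²F₄(q)`, `r` odd, has order at most `r ^ 2`.
-/

set_option autoImplicit false
set_option linter.unusedSectionVars false

namespace Cfsg.Agent.H270.EPU

open CoxeterSystem Cfsg Cfsg.Lie Cfsg.Lie.ChevalleyDatum
open Cfsg.Agent.ChevalleyStructure Cfsg.Agent.ChevalleyStructure.Elts Cfsg.Agent.ChevalleyStructure.CoxeterGeom
  Cfsg.Agent.ChevalleyStructure.CoxeterGeomTypes Cfsg.Agent.ChevalleyStructure.NPerm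
  Cfsg.Agent.ChevalleyStructure.RootVec
open Cfsg.Agent.Tits.Roots Cfsg.Agent.Tits.Core Cfsg.Agent.Nodes Cfsg.Agent.Nodes.Reps Cfsg.Agent.Nodes.BNOf
  Cfsg.Agent.Nodes.RGDChev
open Cfsg.Agent.KFacts.RgdField Cfsg.Agent.KFacts.RgdChevCoord Cfsg.Agent.BpExc.TorCent Cfsg.Agent.BpExc.TorChev
open Cfsg.Agent.GpExc.Field Cfsg.Agent.BpExc.Tow Cfsg.Agent.BpExc.TowChev
  Cfsg.Agent.BpExc.LangFr Cfsg.Agent.BpExc Cfsg.Agent.H129.TorusChar Cfsg.Agent.H129.TorusUntw
open Cfsg.Agent.H493.F4End Cfsg.Agent.H493.F4Tor Cfsg.Agent.H129.WData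
open Cfsg.Agent.H630.NH Cfsg.Agent.H630.Exc Cfsg.Agent.H759.TwF Cfsg.Agent.H893.RM.TwT

universe u v

theorem pRankLE_one {G : Type*} [Group G] [Finite G] {a : G} {N : ℕ} (h' : ∀ i : ℕ, a ^ i = 1 → N ∣ i)
    {p : ℕ} (hp : p.Prime) (hidx : ∀ T : Subgroup G, N ^ 1 ∣ Nat.card T → ¬ p ∣ T.index) : PRankLE p 2 G := by
  refine Cfsg.Agent.PreUniq.LowExc.pRankLE_of_not_dvd hp (hidx (Subgroup.zpowers a) ?_) fun B hB hBe => ?_
  · rw [pow_one, Nat.card_zpowers]
    exact h' _ (pow_orderOf_eq_one a)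
  · let g : B → {x : Subgroup.zpowers a // x ^ p = 1} := fun x => ⟨⟨x, hB x.2⟩, by
      apply Subtype.ext
      rw [Subgroup.coe_pow]
      exact hBe.2 x x.2⟩
    have hgi : Function.Injective g := fun x y hxy => by
      apply Subtype.ext
      exact congrArg (fun z : {x : Subgroup.zpowers a // x ^ p = 1} => ((z : Subgroup.zpowers a) : G)) hxy
    have h3 := Nat.card_le_card_of_injective g hgi
    exact h3.trans ((card_tors_le hp.pos).trans (Nat.le_self_pow (by norm_num) _))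

variable {K : Type u} [Field K] [Fintype K] {m : ℕ} (hK : Fintype.card K = 2 ^ (2 * m + 1))

include hK

/-- the data of the torus, rank 1 -/
theorem exists_a {d : TD} (hd : OkT d) {a : Fin 7} (ha : _root_.Cfsg.Agent.H759.TwF.NN a = d.N) {c : Fin 4 → P} {U : Fin 4} {v : P}
    {κ E : ℕ} (hO : OkO d c U v κ E) :
    ∃ (y : ↥(twistedF4 K (2 ^ m))) (N : ℕ), pe (2 ^ m) d.N = N ∧ ∀ i : ℕ, y ^ i = 1 → N ∣ i := by
  classical
  have : Fact (Nat.Prime 2) := ⟨Nat.prime_two⟩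
  have hc2 : CharP K 2 := F4Fixed.charP_two hK
  obtain ⟨p, e, hpF, hpc, hpk, he, hpe, hk⟩ := _root_.Cfsg.Agent.H129.TorusUntw.exists_closure hK
  have hp2 : p = 2 := CharP.eq K hpc hc2
  subst hp2
  let k := AlgebraicClosure K
  let f : K →+* k := algebraMap K k
  let cs := CoxeterMatrix.F₄.toCoxeterSystem
  have hW : Finite CoxeterMatrix.F₄.Group := H493.PGF4.finW
  have hN : NSys CoxeterMatrix.F₄ (TT chevF4 k) (nc hp k) := nsys_of_locFin hp cs hk 2
  obtain ⟨n, hn⟩ := exists_rp cs hN (TD.w cs d)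
  obtain ⟨z, hz⟩ := H493.F4Lang.lang_ste m n
  have hpos := NN_pos m a
  have hodd := odd_NN (2 ^ m) a
  obtain ⟨N, hNe⟩ := Int.eq_ofNat_of_zero_le hpos.le
  have hNk : (N : k) ≠ 0 := odd_cast hNe
  rw [ha] at hNe hodd
  have key : IsCoprime (N : ℤ) (Lc (2 ^ m) d.Q c (sr U)) := by
    have h1 := pe_of_peq (2 ^ m) hO
    rw [pe_pa, pe_pm, pe_p4, pe_pmo] at h1
    rw [← hNe]
    refine coprime_pow (m := m) hodd (v := pe (2 ^ m) v) (k := κ) (E := E) ?_
    rw [Lc_apply, ← h1]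
    simp only [Mh_sr, pe_pm]
  have hN0 : N ≠ 0 := by rintro rfl; exact hNk Nat.cast_zero
  have : NeZero (N : k) := ⟨hNk⟩
  obtain ⟨ζ, hζ⟩ := HasEnoughRootsOfUnity.exists_primitiveRoot k N
  obtain ⟨y, hy, hyN, hyc⟩ := exists_el hK f hk cs hn hz hζ hN0 (Lc (2 ^ m) d.Q c)
    (fun x => by rw [← hNe]; exact Lc_adapted cs hd.1 hd.2.1 _ c x)
  refine ⟨y, N, hNe, ?_⟩
  intro i hi
  have h1 : y ^ (i : ℤ) = 1 := by rw [zpow_natCast]; exact hi
  have h2 := hyc i (sr U)
  rw [h1, map_one, mul_one, inv_mul_cancel, cX_one] at h2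
  exact Int.natCast_dvd_natCast.1 (key.dvd_of_dvd_mul_right ((hζ.zpow_eq_one_iff_dvd _).1 h2.symm))

theorem prankLE1 {d : TD} (hd : OkT d) {a : Fin 7} (ha : _root_.Cfsg.Agent.H759.TwF.NN a = d.N) (hrk : rk a = 1) {c : Fin 4 → P}
    {U : Fin 4} {v : P} {κ E : ℕ} (hO : OkO d c U v κ E) {r : ℕ}
    (hr : r.Prime) (hr2 : r ≠ 2) (hr3 : r ≠ 3) (hrN : (r : ℤ) ∣ pe (2 ^ m) (_root_.Cfsg.Agent.H759.TwF.NN a)) :
    PRankLE r 2 ↥(twistedF4 K (2 ^ m)) := by
  have hfin : Finite ↥(twistedF4 K (2 ^ m)) := by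
    have := F4Fixed.charP_two hK
    exact H42.Tw.finite_tw (K := K) (2 ^ m)
  obtain ⟨y, N, hNe, h2⟩ := exists_a hK hd ha hO
  refine pRankLE_one h2 hr fun T hT => ?_
  refine not_dvd_index hK hr hr2 hr3 hrN T ?_
  rw [hrk, ha, hNe]
  exact_mod_cast Int.natCast_dvd_natCast.2 hT

/-- **the ranks** of the primes at least 5 -/
theorem prankLE_five {r : ℕ} (hr : r.Prime) (hr2 : r ≠ 2) (hr3 : r ≠ 3) : PRankLE r 2 ↥(twistedF4 K (2 ^ m)) := by
  have hfin : Finite ↥(twistedF4 K (2 ^ m)) := by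
    have := F4Fixed.charP_two hK
    exact H42.Tw.finite_tw (K := K) (2 ^ m)
  by_cases hrd : r ∣ Nat.card ↥(twistedF4 K (2 ^ m))
  · obtain ⟨a, hrN⟩ := exists_type hK hr hr2 hrd
    fin_cases a
    · exact prankLE' hK okT_A (a := 0) rfl rfl okO_A okO2_A okZ_A hr hr2 hr3 hrN
    · exact prankLE' hK okT_B (a := 1) rfl rfl okO_B okO2_B okZ_B hr hr2 hr3 hrN
    · exact prankLE' hK okT_Cp (a := 2) rfl rfl okO_Cp okO2_Cp okZ_Cp hr hr2 hr3 hrN
    · exact prankLE' hK okT_Cm (a := 3) rfl rfl okO_Cm okO2_Cm okZ_Cm hr hr2 hr3 hrN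
    · exact prankLE1 hK okT_D (a := 4) rfl rfl okO_D hr hr2 hr3 hrN
    · exact prankLE1 hK okT_Ep (a := 5) rfl rfl okO_Ep hr hr2 hr3 hrN
    · exact prankLE1 hK okT_Em (a := 6) rfl rfl okO_Em hr hr2 hr3 hrN
  · refine pRankLE_one (a := 1) (N := 1) (fun i _ => one_dvd i) hr fun T _ h => hrd ?_
    exact h.trans T.index_dvd_card

end Cfsg.Agent.H270.EPU
end
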