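import Mathlib
import Cfsg.Agent.FixBN.Disp
import Cfsg.Agent.Prune
set_option linter.all false
prune_inst 0x7f00000000000000000000000000000000000000000000000000000000000000000000000000000000000000000000000000000000000000000000000000000000000000000000000000000000000000003fffffffffffffffffffffffffffbeffbdffffffff
open scoped Cfsg.Agent.FastGrp

/-!
# The centre of a convex set without opposite chambers, rank two (helper270)

`X` a convex set of chambers of a spherical building of rank two without two opposite chambers, such that every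
panel with two chambers in `X` lies in `X`.

* `centre` : there is a chamber of `X`, or a panel in `X`, fixed by all isometries preserving `X`.
-/

set_option autoImplicit false
set_option linter.unusedSectionVars false

open scoped Pointwise

namespace Cfsg.Agent.H270.EPU

open Cfsg.Agent.Tits.Core Cfsg.Agent.Tits.Core.Bldg Cfsg.Agent.Tits.Exchange Cfsg.Agent.Tits Cfsg.Agent.FixBN

variable {M : CoxeterMatrix (Fin 2)} {W : Type*} [Group W] {cs : CoxeterSystem M W} {C : Type*} {Δ : Bldg cs C}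

local prefix:100 "ℓ" => cs.length

section cox

variable [F : OppRes.Cox cs]

theorem right_unique {w : W} (hw : w ≠ w0 cs) {i j : Fin 2} (hi : ℓ (w * cs.simple i) < ℓ w)
    (hj : ℓ (w * cs.simple j) < ℓ w) : i = j := by
  by_contra hij
  apply hw
  refine F.eq_wJ_of_descents (J := Set.univ) ?_ fun k _ => ?_
  · rw [WJ, Set.image_univ, cs.subgroup_closure_range_simple]
    exact Subgroup.mem_top _
  · have hk : k = i ∨ k = j := by omega
    rcases hk with rfl | rfl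
    · exact hi
    · exact hj

theorem left_unique {w : W} (hw : w ≠ w0 cs) {i j : Fin 2} (hi : ℓ (cs.simple i * w) < ℓ w)
    (hj : ℓ (cs.simple j * w) < ℓ w) : i = j := by
  have h : ∀ k, ℓ (w⁻¹ * cs.simple k) = ℓ (cs.simple k * w) := by
    intro k
    have h1 := cs.length_inv (cs.simple k * w)
    rwa [mul_inv_rev, cs.inv_simple] at h1
  refine right_unique (w := w⁻¹) (fun h1 => hw ?_) (by rw [h, cs.length_inv]; exact hi)
    (by rw [h, cs.length_inv]; exact hj)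
  rw [← inv_inv w, h1, F.w0_inv]

end cox

/-- convex, no two opposite chambers -/
structure Good (Δ : Bldg cs C) (X : Set C) : Prop where
  conv : Conv Δ X
  nopp : ∀ x ∈ X, ∀ y ∈ X, Δ.δ x y ≠ w0 cs

theorem len_symm (x y : C) : ℓ (Δ.δ y x) = ℓ (Δ.δ x y) := by
  rw [Δ.symm x y, cs.length_inv]

variable [F : OppRes.Cox cs] {X : Set C}

theorem add_of (hX : Good Δ X) (n : ℕ) : ∀ {a b c : C}, a ∈ X → b ∈ X → c ∈ X → ℓ (Δ.δ b c) = n →
    (∀ i, ℓ (Δ.δ a b * cs.simple i) < ℓ (Δ.δ a b) → ¬ ℓ (cs.simple i * Δ.δ b c) < ℓ (Δ.δ b c)) →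
    ℓ (Δ.δ a c) = ℓ (Δ.δ a b) + n := by
  induction n with
  | zero =>
    intro a b c ha hb hc hn _
    rw [cs.length_eq_zero_iff, Δ.eq_one] at hn
    rw [hn, add_zero]
  | succ n ih =>
    intro a b c ha hb hc hn h
    have h1 : Δ.δ b c ≠ 1 := by
      intro h1
      rw [h1, cs.length_one] at hn
      omega
    obtain ⟨i, hi⟩ := cs.exists_leftDescent_of_ne_one h1
    have hi' : ℓ (cs.simple i * Δ.δ b c) < ℓ (Δ.δ b c) := hi
    obtain ⟨b', hb1, hb2⟩ := exists_first Δ hi'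
    have hb' : b' ∈ X := hX.conv b hb c hc b' i hb1 hb2 hi'
    have h2 : ¬ ℓ (Δ.δ a b * cs.simple i) < ℓ (Δ.δ a b) := fun h2 => h i h2 hi'
    have h3 : ℓ (Δ.δ a b * cs.simple i) = ℓ (Δ.δ a b) + 1 := by
      have := cs.length_mul_simple (Δ.δ a b) i
      omega
    have h4 : Δ.δ a b' = Δ.δ a b * cs.simple i := Δ.step_lt a b b' i hb1 (by omega)
    have h5 : ℓ (cs.simple i * Δ.δ b c) + 1 = ℓ (Δ.δ b c) := by
      have := cs.length_simple_mul (Δ.δ b c) i
      omega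
    have h6 : ℓ (Δ.δ b' c) = n := by
      rw [hb2]
      omega
    have h7 := ih ha hb' hc h6 (by
      intro j hj hj'
      have h8 : ℓ (Δ.δ a b' * cs.simple i) < ℓ (Δ.δ a b') := by
        rw [h4, mul_assoc, cs.simple_mul_simple_self, mul_one]
        omega
      have h9 : j = i := right_unique (hX.nopp a ha b' hb') hj h8
      subst h9
      rw [hb2, ← mul_assoc, cs.simple_mul_simple_self, one_mul] at hj'
      omega)
    rw [h7, h4, h3]
    omega

/-- **the key lemma** -/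
theorem key (hX : Good Δ X) {x y z u : C} (hx : x ∈ X) (hy : y ∈ X) (hz : z ∈ X) (hu : u ∈ X)
    (h : ℓ (Δ.δ x z * Δ.δ z y) = ℓ (Δ.δ x z) + ℓ (Δ.δ z y)) :
    ℓ (Δ.δ u y) = ℓ (Δ.δ u z) + ℓ (Δ.δ z y) ∨ ℓ (Δ.δ u x) = ℓ (Δ.δ u z) + ℓ (Δ.δ x z) := by
  by_contra hne
  push Not at hne
  have h1 : ∃ i, ℓ (Δ.δ u z * cs.simple i) < ℓ (Δ.δ u z) ∧ ℓ (cs.simple i * Δ.δ z y) < ℓ (Δ.δ z y) := by
    by_contra h1
    push Not at h1
    exact hne.1 (add_of hX _ hu hz hy rfl fun i hi => not_lt.2 (h1 i hi))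
  have h2 : ∃ i, ℓ (Δ.δ u z * cs.simple i) < ℓ (Δ.δ u z) ∧ ℓ (cs.simple i * Δ.δ z x) < ℓ (Δ.δ z x) := by
    by_contra h2
    push Not at h2
    refine hne.2 ?_
    rw [add_of hX _ hu hz hx rfl fun i hi => not_lt.2 (h2 i hi), len_symm x z]
  obtain ⟨i, hi1, hi2⟩ := h1
  obtain ⟨j, hj1, hj2⟩ := h2
  obtain rfl : i = j := right_unique (hX.nopp u hu z hz) hi1 hj1
  have h3 : ℓ (Δ.δ x z * cs.simple i) < ℓ (Δ.δ x z) := by
    rw [Δ.symm x z, cs.length_inv] at hj2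
    have h4 := cs.length_inv (cs.simple i * (Δ.δ x z)⁻¹)
    rw [mul_inv_rev, cs.inv_simple, inv_inv] at h4
    omega
  have h4 : Δ.δ x z * Δ.δ z y = (Δ.δ x z * cs.simple i) * (cs.simple i * Δ.δ z y) := by
    rw [mul_assoc, ← mul_assoc (cs.simple i), cs.simple_mul_simple_self, one_mul]
  have h5 := cs.length_mul_le (Δ.δ x z * cs.simple i) (cs.simple i * Δ.δ z y)
  rw [← h4] at h5
  omega

/-- the points of a geodesic -/
theorem exists_pt (hX : Good Δ X) {x y : C} (hx : x ∈ X) (hy : y ∈ X) (n : ℕ) (hn : n ≤ ℓ (Δ.δ x y)) :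
    ∃ z ∈ X, ℓ (Δ.δ x z) = n ∧ n + ℓ (Δ.δ z y) = ℓ (Δ.δ x y) ∧ Δ.δ x z * Δ.δ z y = Δ.δ x y := by
  induction n with
  | zero => exact ⟨x, hx, by rw [Δ.δ_self, cs.length_one], by rw [zero_add], by rw [Δ.δ_self, one_mul]⟩
  | succ n ih =>
    obtain ⟨z, hz, h1, h2, h3⟩ := ih (by omega)
    have h4 : Δ.δ z y ≠ 1 := by
      intro h4
      rw [h4, cs.length_one] at h2
      omega
    obtain ⟨i, hi⟩ := cs.exists_leftDescent_of_ne_one h4
    have hi' : ℓ (cs.simple i * Δ.δ z y) < ℓ (Δ.δ z y) := hi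
    obtain ⟨z', hz1, hz2⟩ := exists_first Δ hi'
    have hz' : z' ∈ X := hX.conv z hz y hy z' i hz1 hz2 hi'
    have h5 : ℓ (cs.simple i * Δ.δ z y) + 1 = ℓ (Δ.δ z y) := by
      have := cs.length_simple_mul (Δ.δ z y) i
      omega
    have h6 : ℓ (Δ.δ x z * cs.simple i) = ℓ (Δ.δ x z) + 1 := by
      have h7 : Δ.δ x y = (Δ.δ x z * cs.simple i) * (cs.simple i * Δ.δ z y) := by
        rw [mul_assoc, ← mul_assoc (cs.simple i), cs.simple_mul_simple_self, one_mul, h3]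
      have h8 := cs.length_mul_le (Δ.δ x z * cs.simple i) (cs.simple i * Δ.δ z y)
      rw [← h7] at h8
      have := cs.length_mul_simple (Δ.δ x z) i
      omega
    have h7 : Δ.δ x z' = Δ.δ x z * cs.simple i := Δ.step_lt x z z' i hz1 (by omega)
    refine ⟨z', hz', by rw [h7, h6, h1], by rw [hz2]; omega, ?_⟩
    rw [h7, hz2, mul_assoc, ← mul_assoc (cs.simple i), cs.simple_mul_simple_self, one_mul, h3]

theorem exists_max (hne : X.Nonempty) :
    ∃ x ∈ X, ∃ y ∈ X, ∀ a ∈ X, ∀ b ∈ X, ℓ (Δ.δ a b) ≤ ℓ (Δ.δ x y) := by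
  classical
  have hex : ∃ n, ∃ x ∈ X, ∃ y ∈ X, ℓ (w0 cs) - ℓ (Δ.δ x y) = n :=
    ⟨_, hne.some, hne.some_mem, hne.some, hne.some_mem, rfl⟩
  obtain ⟨x, hx, y, hy, hn⟩ := Nat.find_spec hex
  refine ⟨x, hx, y, hy, fun a ha b hb => ?_⟩
  have h1 : ℓ (w0 cs) - ℓ (Δ.δ x y) ≤ ℓ (w0 cs) - ℓ (Δ.δ a b) := by
    rw [hn]
    exact Nat.find_min' hex ⟨a, ha, b, hb, rfl⟩
  have h2 := F.len_mul_w0 (Δ.δ a b)
  have h3 := F.len_mul_w0 (Δ.δ x y)
  omega

/-- **The centre.** -/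
theorem centre (hX : Good Δ X) (hne : X.Nonempty)
    (hpan : ∀ x ∈ X, ∀ y ∈ X, ∀ i, Δ.δ x y = cs.simple i → Δ.Pan i x ⊆ X) :
    (∃ c ∈ X, ∀ g : C → C, (∀ a b, Δ.δ (g a) (g b) = Δ.δ a b) → (∀ a ∈ X, g a ∈ X) → (∀ a ∈ X, ∃ b ∈ X, g b = a) →
      g c = c) ∨
    (∃ c ∈ X, ∃ i, Δ.Pan i c ⊆ X ∧ ∀ g : C → C, (∀ a b, Δ.δ (g a) (g b) = Δ.δ a b) → (∀ a ∈ X, g a ∈ X) →
      (∀ a ∈ X, ∃ b ∈ X, g b = a) → g c ∈ Δ.Pan i c) := by
  obtain ⟨x, hx, y, hy, hmax⟩ := exists_max (Δ := Δ) hne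
  rcases Nat.even_or_odd' (ℓ (Δ.δ x y)) with ⟨h, hh | hh⟩
  · left
    obtain ⟨z, hz, h1, h2, h3⟩ := exists_pt hX hx hy h (by omega)
    have h4 : ℓ (Δ.δ z y) = h := by omega
    have hadd : ℓ (Δ.δ x z * Δ.δ z y) = ℓ (Δ.δ x z) + ℓ (Δ.δ z y) := by rw [h3, h1, h4]; omega
    have hdist : ∀ u ∈ X, ℓ (Δ.δ u z) ≤ h := by
      intro u hu
      have h5 := hmax u hu y hy
      have h6 := hmax u hu x hx
      rcases key hX hx hy hz hu hadd with h7 | h7 <;> omega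
    refine ⟨z, hz, fun g hg hgX hgX' => ?_⟩
    have hdist' : ∀ u ∈ X, ℓ (Δ.δ (g z) u) ≤ h := by
      intro u hu
      obtain ⟨b, hb, rfl⟩ := hgX' u hu
      rw [hg, len_symm b z]
      exact hdist b hb
    have h5 : ℓ (Δ.δ (g z) z) = 0 := by
      have h6 := hdist' x hx
      have h7 := hdist' y hy
      rcases key hX hx hy hz (hgX z hz) hadd with h8 | h8 <;> omega
    rw [cs.length_eq_zero_iff, Δ.eq_one] at h5
    exact h5
  · right
    obtain ⟨z, hz, h1, h2, h3⟩ := exists_pt hX hx hy h (by omega)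
    have h4 : ℓ (Δ.δ z y) = h + 1 := by omega
    have hadd : ℓ (Δ.δ x z * Δ.δ z y) = ℓ (Δ.δ x z) + ℓ (Δ.δ z y) := by rw [h3, h1, h4]; omega
    have h5 : Δ.δ z y ≠ 1 := by
      intro h5
      rw [h5, cs.length_one] at h4
      omega
    obtain ⟨i, hi⟩ := cs.exists_leftDescent_of_ne_one h5
    have hi' : ℓ (cs.simple i * Δ.δ z y) < ℓ (Δ.δ z y) := hi
    obtain ⟨z', hz1, hz2⟩ := exists_first Δ hi'
    have hz' : z' ∈ X := hX.conv z hz y hy z' i hz1 hz2 hi'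
    have hP : Δ.Pan i z ⊆ X := hpan z hz z' hz' i hz1
    have hdist : ∀ u ∈ X, ∃ c ∈ Δ.Pan i z, ℓ (Δ.δ u c) ≤ h := by
      intro u hu
      have h6 := hmax u hu y hy
      have h7 := hmax u hu x hx
      by_cases hle : ℓ (Δ.δ u z) ≤ h
      · exact ⟨z, Δ.self_mem_Pan i z, hle⟩
      have h8 : ℓ (Δ.δ u z) = h + 1 := by
        rcases key hX hx hy hz hu hadd with h9 | h9 <;> omega
      by_cases hdes : ℓ (Δ.δ u z * cs.simple i) < ℓ (Δ.δ u z)
      · obtain ⟨c, hc1, hc2⟩ := Δ.exists_step u z i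
        refine ⟨c, Δ.mem_Pan_of_δ hc1, ?_⟩
        rw [hc2]
        omega
      · exfalso
        have h9 := add_of hX _ hu hz hy rfl (fun j hj hj' => by
          have h10 : j = i := left_unique (hX.nopp z hz y hy) hj' hi'
          rw [h10] at hj
          exact hdes hj)
        omega
    refine ⟨z, hz, i, hP, fun g hg hgX hgX' => ?_⟩
    have hdist' : ∀ u ∈ X, ∃ c ∈ Δ.Pan i z, ℓ (Δ.δ u (g c)) ≤ h := by
      intro u hu
      obtain ⟨b, hb, rfl⟩ := hgX' u hu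
      obtain ⟨c, hc, h6⟩ := hdist b hb
      exact ⟨c, hc, by rw [hg]; exact h6⟩
    obtain ⟨c1, hc1, hx1⟩ := hdist' x hx
    obtain ⟨c2, hc2, hy2⟩ := hdist' y hy
    have ha : g c1 ∈ X := hgX _ (hP hc1)
    have h6 : ℓ (Δ.δ y (g c1)) ≤ h + 1 := by
      by_cases hcc : c2 = c1
      · rw [← hcc]; omega
      · have h7 : Δ.δ (g c2) (g c1) = cs.simple i := by
          rw [hg]
          exact Δ.δ_eq_of_mem_Pan hc2 hc1 hcc
        have h10 := cs.length_mul_simple (Δ.δ y (g c2)) i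
        rcases Δ.step y (g c2) (g c1) i h7 with h8 | h8
        · rw [h8]; omega
        · rw [h8]; omega
    have h7 : ℓ (Δ.δ (g c1) z) = 0 := by
      have e1 := len_symm (Δ := Δ) y (g c1)
      have e2 := len_symm (Δ := Δ) x (g c1)
      rcases key hX hx hy hz ha hadd with h8 | h8 <;> omega
    rw [cs.length_eq_zero_iff, Δ.eq_one] at h7
    have h8 : g z ∈ Δ.Pan i (g c1) := by
      by_cases hcc : c1 = z
      · rw [hcc]; exact Δ.self_mem_Pan i _
      · refine Δ.mem_Pan_of_δ ?_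
        rw [hg]
        exact Δ.δ_eq_of_mem_Pan hc1 (Δ.self_mem_Pan i z) hcc
    rwa [h7] at h8

end Cfsg.Agent.H270.EPU
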